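import Cfsg.Agent.OddHalf.D7TwF4.Syl.NHat

/-!
# Averaging over a torus of odd order on an elementary abelian section (helper224)
-/

set_option autoImplicit false
set_option linter.unusedVariables false
set_option linter.unusedSectionVars false

namespace Cfsg.Agent.OddHalf.D7TwF4.Syl.Avg

open Cfsg.Agent.OddHalf.D7TwF4.Growth.Defs Cfsg.Agent.OddHalf.D7TwF4.Growth.Tools
open Cfsg.Agent.OddHalf.D7TwF4.Syl.Free Cfsg.Agent.OddHalf.D7TwF4.Syl.NHat

universe u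

variable {G : Type u} [Group G]

theorem exists_quot {N E : Subgroup G} (h : Sec N E) :
    ∃ (V : Type u) (_ : CommGroup V) (π : N →* V), ∀ x : N, π x = 1 ↔ (x : G) ∈ E := by
  have hn : (E.subgroupOf N).Normal := ⟨fun a ha g => by
    rw [Subgroup.mem_subgroupOf] at ha ⊢
    exact h.nz g g.2 _ ha⟩
  refine ⟨N ⧸ E.subgroupOf N, { (inferInstance : Group (N ⧸ E.subgroupOf N)) with mul_comm := ?_ },
    QuotientGroup.mk' (E.subgroupOf N), ?_⟩
  · intro a b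
    obtain ⟨x, rfl⟩ := QuotientGroup.mk_surjective a
    obtain ⟨y, rfl⟩ := QuotientGroup.mk_surjective b
    show ((x * y : N) : N ⧸ E.subgroupOf N) = ((y * x : N) : N ⧸ E.subgroupOf N)
    rw [QuotientGroup.eq, Subgroup.mem_subgroupOf]
    have := h.cl _ (inv_mem y.2) _ (inv_mem x.2)
    show ((x : G) * y)⁻¹ * (y * x) ∈ E
    have e : ((x : G) * y)⁻¹ * (y * x) = (y : G)⁻¹ * (x : G)⁻¹ * (y : G)⁻¹⁻¹ * (x : G)⁻¹⁻¹ := by group
    rw [e]; exact this
  · intro x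
    show ((x : N) : N ⧸ E.subgroupOf N) = 1 ↔ _
    rw [QuotientGroup.eq_one_iff, Subgroup.mem_subgroupOf]

/-- The average. -/
noncomputable def Av [Finite G] (T : Subgroup G) (n : G) : G :=
  letI : Fintype T := Fintype.ofFinite T
  ((Finset.univ : Finset T).toList.map (fun h : T => (h : G) * n * (h : G)⁻¹)).prod

section

variable [Finite G] {T : Subgroup G}

theorem Av_mem {M : Subgroup G} (hT : Nz T M) {n : G} (hn : n ∈ M) : Av T n ∈ M := by
  apply Subgroup.list_prod_mem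
  intro x hx
  rw [List.mem_map] at hx
  obtain ⟨h, _, rfl⟩ := hx
  exact hT h h.2 n hn

theorem Av_map (f : G →* G) (hf : ∀ h ∈ T, f h = h) (n : G) : f (Av T n) = Av T (f n) := by
  unfold Av
  rw [map_list_prod, List.map_map]
  congr 1
  apply List.map_congr_left
  intro h _
  show f ((h : G) * n * (h : G)⁻¹) = _
  rw [map_mul, map_mul, map_inv, hf h h.2]

theorem Av_conj {g : G} (hg : ∀ h ∈ T, g * h = h * g) (n : G) : g * Av T n * g⁻¹ = Av T (g * n * g⁻¹) :=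
  Av_map (MulAut.conj g).toMonoidHom (fun h hh => by
    show g * h * g⁻¹ = h
    rw [hg h hh, mul_inv_cancel_right]) n

/-- the image in the quotient -/
theorem Av_quot {N : Subgroup G} {V : Type u} [CommGroup V] (π : N →* V) (hTN : Nz T N) {n : G} (hn : n ∈ N) :
    letI : Fintype T := Fintype.ofFinite T
    π ⟨Av T n, Av_mem hTN hn⟩ = ∏ h : T, π ⟨(h : G) * n * (h : G)⁻¹, hTN h h.2 n hn⟩ := by
  letI : Fintype T := Fintype.ofFinite T
  show π ⟨Av T n, Av_mem hTN hn⟩ = ∏ h : T, π ⟨(h : G) * n * (h : G)⁻¹, hTN h h.2 n hn⟩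
  have e1 : (⟨Av T n, Av_mem hTN hn⟩ : N) =
      ((Finset.univ : Finset T).toList.map (fun h : T => (⟨(h : G) * n * (h : G)⁻¹, hTN h h.2 n hn⟩ : N))).prod := by
    apply Subtype.ext
    rw [Subgroup.val_list_prod, List.map_map]
    rfl
  rw [e1, map_list_prod, List.map_map, ← Finset.prod_map_toList]
  rfl

theorem Av_fix {N E : Subgroup G} (hS : Sec N E) (hTN : Nz T N) {n : G} (hn : n ∈ N) {g : G} (hg : g ∈ T) :
    (Av T n)⁻¹ * (g * Av T n * g⁻¹) ∈ E := by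
  obtain ⟨V, _, π, hπ⟩ := exists_quot hS
  letI : Fintype T := Fintype.ofFinite T
  have h1 := Av_quot π hTN hn
  have hA := Av_mem hTN hn
  have e1 : g * Av T n * g⁻¹ =
      ((Finset.univ : Finset T).toList.map (fun h : T => ((⟨g, hg⟩ * h : T) : G) * n * ((⟨g, hg⟩ * h : T) : G)⁻¹)).prod := by
    have : g * Av T n * g⁻¹ = (MulAut.conj g).toMonoidHom (Av T n) := rfl
    rw [this]
    unfold Av
    rw [map_list_prod, List.map_map]
    congr 1
    apply List.map_congr_left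
    intro h _
    show g * ((h : G) * n * (h : G)⁻¹) * g⁻¹ = (g * h) * n * (g * h)⁻¹
    group
  have hm : g * Av T n * g⁻¹ ∈ N := hTN g hg _ hA
  have h2 : π ⟨g * Av T n * g⁻¹, hm⟩ = ∏ h : T, π ⟨((⟨g, hg⟩ * h : T) : G) * n * ((⟨g, hg⟩ * h : T) : G)⁻¹,
      hTN _ (⟨g, hg⟩ * h : T).2 n hn⟩ := by
    have e2 : (⟨g * Av T n * g⁻¹, hm⟩ : N) =
        ((Finset.univ : Finset T).toList.map (fun h : T => (⟨((⟨g, hg⟩ * h : T) : G) * n * ((⟨g, hg⟩ * h : T) : G)⁻¹,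
          hTN _ (⟨g, hg⟩ * h : T).2 n hn⟩ : N))).prod := by
      apply Subtype.ext
      rw [Subgroup.val_list_prod, List.map_map]
      exact e1
    rw [e2, map_list_prod, List.map_map, ← Finset.prod_map_toList]
    rfl
  have h3 : π ⟨g * Av T n * g⁻¹, hm⟩ = π ⟨Av T n, hA⟩ := by
    rw [h2, h1]
    exact Fintype.prod_equiv (Equiv.mulLeft (⟨g, hg⟩ : T)) _ _ (fun h => rfl)
  have h4 : π (⟨Av T n, hA⟩⁻¹ * ⟨g * Av T n * g⁻¹, hm⟩) = 1 := by
    rw [map_mul, map_inv, h3, inv_mul_cancel]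
  exact (hπ _).1 h4

theorem Av_mul {N E : Subgroup G} (hS : Sec N E) (hTN : Nz T N) {n m : G} (hn : n ∈ N) (hm : m ∈ N) :
    (Av T n * Av T m)⁻¹ * Av T (n * m) ∈ E := by
  obtain ⟨V, _, π, hπ⟩ := exists_quot hS
  letI : Fintype T := Fintype.ofFinite T
  have h1 := Av_quot π hTN hn
  have h2 := Av_quot π hTN hm
  have h3 := Av_quot π hTN (mul_mem hn hm)
  have h4 : π ⟨Av T (n * m), Av_mem hTN (mul_mem hn hm)⟩ = π ⟨Av T n, Av_mem hTN hn⟩ * π ⟨Av T m, Av_mem hTN hm⟩ := by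
    rw [h1, h2, h3, ← Finset.prod_mul_distrib]
    refine Finset.prod_congr rfl fun h _ => ?_
    rw [← map_mul]
    congr 1
    apply Subtype.ext
    show (h : G) * (n * m) * (h : G)⁻¹ = (h : G) * n * (h : G)⁻¹ * ((h : G) * m * (h : G)⁻¹)
    group
  have h5 : π ((⟨Av T n, Av_mem hTN hn⟩ * ⟨Av T m, Av_mem hTN hm⟩)⁻¹ * ⟨Av T (n * m), Av_mem hTN (mul_mem hn hm)⟩) = 1 := by
    rw [map_mul, map_inv, map_mul, h4, inv_mul_cancel]
  exact (hπ _).1 h5

theorem Av_of_fix {N E : Subgroup G} (hS : Sec N E) (hTN : Nz T N) (hodd : Odd (Nat.card T)) {n : G} (hn : n ∈ N)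
    (hf : ∀ h ∈ T, n⁻¹ * (h * n * h⁻¹) ∈ E) : n⁻¹ * Av T n ∈ E := by
  obtain ⟨V, _, π, hπ⟩ := exists_quot hS
  letI : Fintype T := Fintype.ofFinite T
  have h1 := Av_quot π hTN hn
  have h2 : ∀ h : T, π ⟨(h : G) * n * (h : G)⁻¹, hTN h h.2 n hn⟩ = π ⟨n, hn⟩ := by
    intro h
    have : π (⟨n, hn⟩⁻¹ * ⟨(h : G) * n * (h : G)⁻¹, hTN h h.2 n hn⟩) = 1 := (hπ _).2 (hf h h.2)
    rw [map_mul, map_inv, inv_mul_eq_one] at this
    exact this.symm
  have h3 : π ⟨n, hn⟩ * π ⟨n, hn⟩ = 1 := by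
    rw [← map_mul]
    exact (hπ _).2 (hS.sq n hn)
  have h4 : π ⟨Av T n, Av_mem hTN hn⟩ = π ⟨n, hn⟩ := by
    rw [h1, Finset.prod_congr rfl (fun h _ => h2 h), Finset.prod_const, Finset.card_univ, ← Nat.card_eq_fintype_card]
    obtain ⟨k, hk⟩ := hodd
    rw [hk, pow_succ, pow_mul, pow_two, h3, one_pow, one_mul]
  have h5 : π (⟨n, hn⟩⁻¹ * ⟨Av T n, Av_mem hTN hn⟩) = 1 := by
    rw [map_mul, map_inv, h4, inv_mul_cancel]
  exact (hπ _).1 h5

end

end Cfsg.Agent.OddHalf.D7TwF4.Syl.Avg
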