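import Cfsg.Agent.OddHalf.D7TwF4.Growth.Tools

/-!
# `t`-free 2-groups and Sylow 2-subgroups (helper224; text bb ODD 14326)

`τ` = conjugation by the involution `t`. `Dbl τ A K` : the `t`-invariant group `A` is `t`-free with fixed points `K`.

* `MaxTwo D A` : `A` is a Sylow 2-subgroup of `D`;
* `exists_inv` : a `t`-invariant 2-subgroup of the `t`-invariant group `D` is in a `t`-invariant Sylow 2-subgroup of `D`;
* `maxTwo_of_free` : a `t`-free 2-subgroup `A` of `D` with `C_D(t) ≤ A` is Sylow in `D`;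
* `free_of_free` : if one `t`-invariant Sylow 2-subgroup of `D` is `t`-free, all are;
* `dbl_ext` : extension by a `t`-free elementary abelian section.
-/

set_option autoImplicit false
set_option linter.unusedVariables false
set_option linter.unusedSectionVars false

namespace Cfsg.Agent.OddHalf.D7TwF4.Syl.Free

open Cfsg.Agent.OddHalf.D7TwF4.Growth.Defs Cfsg.Agent.OddHalf.D7TwF4.Growth.Tools

variable {G : Type*} [Group G]

/-- elementary abelian extension of a `t`-free group -/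
theorem dbl_ext {τ : G →* G} (tt : ∀ x, τ (τ x) = x) {A B K L : Subgroup G} (hA : Dbl τ A K) (hAB : A ≤ B)
    (hB : ∀ b ∈ B, τ b ∈ B) (hn : Nz B A) (hsq : ∀ b ∈ B, b * b ∈ A) (hL : L ≤ B) (hLf : ∀ x ∈ L, τ x = x)
    (hfL : ∀ b ∈ B, τ b = b → b ∈ L) (hs : ∀ k ∈ L, ∃ r ∈ B, k⁻¹ * (r⁻¹ * τ r) ∈ A) : Dbl τ B L where
  le := hL
  inv := hB
  fixK := hLf
  fix := hfL
  free := by
    intro s hs1 hs2
    -- `s⁻¹ τ s ∈ A`
    have e1 : s⁻¹ * τ s ∈ A := by
      have e2 : s⁻¹ * τ s = (s⁻¹ * s⁻¹) * (s * τ s) := by group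
      rw [e2, hs2, mul_one]
      exact hsq _ (inv_mem hs1)
    obtain ⟨b, hb, hbf⟩ := hA.exists_fix tt e1
    have hcL : s * b ∈ L := hfL _ (mul_mem hs1 (hAB hb)) hbf
    obtain ⟨r, hr, hr1⟩ := hs _ hcL
    obtain ⟨a1, ha1⟩ : ∃ a1, a1 = (s * b)⁻¹ * (r⁻¹ * τ r) := ⟨_, rfl⟩
    rw [← ha1] at hr1
    have er : τ r = r * s * (b * a1) := by rw [ha1]; group
    have e3 : r * s * (τ r)⁻¹ ∈ A := by
      have e4 : r * s * (τ r)⁻¹ = (r * s) * (b * a1)⁻¹ * (r * s)⁻¹ := by rw [er]; group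
      rw [e4]
      exact hn _ (mul_mem hr hs1) _ (inv_mem (mul_mem hb hr1))
    have e5 : (r * s * (τ r)⁻¹) * τ (r * s * (τ r)⁻¹) = 1 := by
      rw [map_mul, map_mul, map_inv, tt]
      calc r * s * (τ r)⁻¹ * (τ r * τ s * r⁻¹) = r * (s * τ s) * r⁻¹ := by group
        _ = 1 := by rw [hs2]; group
    obtain ⟨a, ha, hra⟩ := hA.free _ e3 e5
    refine ⟨r⁻¹ * a, mul_mem (inv_mem hr) (hAB ha), ?_⟩
    calc s = r⁻¹ * (r * s * (τ r)⁻¹) * τ r := by group
      _ = r⁻¹ * a * (τ (r⁻¹ * a))⁻¹ := by rw [hra, map_mul, map_inv]; group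

/-! ### Sylow 2-subgroups of a subgroup -/

/-- `A` is a Sylow 2-subgroup of `D` -/
structure MaxTwo (D A : Subgroup G) : Prop where
  le : A ≤ D
  two : IsPGroup 2 A
  max : ∀ Q : Subgroup G, Q ≤ D → IsPGroup 2 Q → A ≤ Q → Q ≤ A

/-- the Sylow subgroup of the type `D` -/
theorem MaxTwo.isSylow {D A : Subgroup G} (h : MaxTwo D A) : ∃ P : Sylow 2 D, (P : Subgroup D).map D.subtype = A := by
  have h1 : IsPGroup 2 (A.subgroupOf D) := h.two.comap_of_injective D.subtype (Subgroup.subtype_injective D)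
  refine ⟨⟨A.subgroupOf D, h1, ?_⟩, ?_⟩
  · intro Q hQ hAQ
    apply le_antisymm ?_ hAQ
    have h2 : Q.map D.subtype ≤ A := by
      apply h.max _ (Subgroup.map_subtype_le Q) (hQ.map _)
      have := Subgroup.map_mono (f := D.subtype) hAQ
      rwa [Subgroup.subgroupOf_map_subtype, inf_eq_left.2 h.le] at this
    intro x hx
    exact h2 (Subgroup.mem_map_of_mem _ hx)
  · show (A.subgroupOf D).map D.subtype = A
    rw [Subgroup.subgroupOf_map_subtype, inf_eq_left.2 h.le]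

theorem maxTwo_of_sylow {D : Subgroup G} (P : Sylow 2 D) : MaxTwo D ((P : Subgroup D).map D.subtype) where
  le := Subgroup.map_subtype_le _
  two := P.2.map _
  max := by
    intro Q hQD hQ hPQ
    have h1 : IsPGroup 2 (Q.subgroupOf D) := hQ.comap_of_injective D.subtype (Subgroup.subtype_injective D)
    have h2 : (P : Subgroup D) ≤ Q.subgroupOf D := by
      intro x hx
      exact hPQ (Subgroup.mem_map_of_mem _ hx)
    have h3 := P.is_maximal' h1 h2
    intro x hx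
    have h4 : (⟨x, hQD hx⟩ : D) ∈ Q.subgroupOf D := hx
    rw [h3] at h4
    exact ⟨_, h4, rfl⟩

theorem exists_maxTwo [Finite G] {D A : Subgroup G} (hAD : A ≤ D) (hA : IsPGroup 2 A) : ∃ S, A ≤ S ∧ MaxTwo D S := by
  have h1 : IsPGroup 2 (A.subgroupOf D) := hA.comap_of_injective D.subtype (Subgroup.subtype_injective D)
  obtain ⟨P, hP⟩ := h1.exists_le_sylow
  refine ⟨_, ?_, maxTwo_of_sylow P⟩
  intro x hx
  exact ⟨⟨x, hAD hx⟩, hP hx, rfl⟩

/-- Sylow: conjugacy -/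
theorem MaxTwo.conj [Finite G] {D A B : Subgroup G} (hA : MaxTwo D A) (hB : MaxTwo D B) :
    ∃ g ∈ D, ∀ x, x ∈ A ↔ g * x * g⁻¹ ∈ B := by
  obtain ⟨P, hP⟩ := hA.isSylow
  obtain ⟨Q, hQ⟩ := hB.isSylow
  obtain ⟨g, hg⟩ := MulAction.exists_smul_eq D P Q
  refine ⟨g, g.2, ?_⟩
  have key : ∀ x : D, x ∈ (P : Subgroup D) ↔ g * x * g⁻¹ ∈ (Q : Subgroup D) := by
    intro x
    rw [← hg, Sylow.coe_subgroup_smul, Subgroup.mem_pointwise_smul_iff_inv_smul_mem]
    have e : (MulAut.conj g)⁻¹ • (g * x * g⁻¹) = x := by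
      rw [← map_inv]
      show g⁻¹ * (g * x * g⁻¹) * g⁻¹⁻¹ = x
      group
    have e2 : (MulAut.conj g)⁻¹ • (g * x * g⁻¹) = (MulAut.conj g)⁻¹ • (g * x * g⁻¹) := rfl
    rw [e]
  intro x
  constructor
  · intro hx
    rw [← hP] at hx
    obtain ⟨y, hy, rfl⟩ := hx
    rw [← hQ]
    exact ⟨_, (key y).1 hy, rfl⟩
  · intro hx
    rw [← hQ] at hx
    obtain ⟨y, hy, hyx⟩ := hx
    have hxD : x ∈ D := by
      have e : x = (g : G)⁻¹ * (g * x * (g : G)⁻¹) * g := by group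
      rw [e]
      refine mul_mem (mul_mem (inv_mem g.2) ?_) g.2
      rw [← hyx]; exact y.2
    rw [← hP]
    refine ⟨⟨x, hxD⟩, (key _).2 ?_, rfl⟩
    have : g * ⟨x, hxD⟩ * g⁻¹ = y := Subtype.ext hyx.symm
    rw [this]; exact hy

/-- a 2-subgroup of `D` is conjugate into a Sylow 2-subgroup of `D` -/
theorem MaxTwo.conj_le [Finite G] {D A Q : Subgroup G} (hA : MaxTwo D A) (hQD : Q ≤ D) (hQ : IsPGroup 2 Q) :
    ∃ g ∈ D, ∀ x ∈ Q, g * x * g⁻¹ ∈ A := by
  obtain ⟨S, hQS, hS⟩ := exists_maxTwo hQD hQ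
  obtain ⟨g, hg, h⟩ := hS.conj hA
  exact ⟨g, hg, fun x hx => (h x).1 (hQS hx)⟩

/-! ### `A ⟨t⟩` -/

section

variable {t : G} (t2 : t * t = 1)

include t2

theorem t_inv' : t⁻¹ = t := inv_eq_of_mul_eq_one_left t2

/-- `A ⟨t⟩` -/
def AT (t2 : t * t = 1) (A : Subgroup G) (hA : ∀ a ∈ A, t * a * t⁻¹ ∈ A) : Subgroup G where
  carrier := {x | x ∈ A ∨ x * t ∈ A}
  one_mem' := Or.inl (one_mem A)
  mul_mem' := by
    have ti := t_inv' t2
    have hA' : ∀ a ∈ A, t * a * t ∈ A := by intro a ha; have := hA a ha; rwa [ti] at this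
    rintro x y (hx | hx) (hy | hy)
    · exact Or.inl (mul_mem hx hy)
    · right
      show x * y * t ∈ A
      rw [mul_assoc]; exact mul_mem hx hy
    · right
      show x * y * t ∈ A
      have e : x * y * t = (x * t) * (t * y * t) := by
        have : x * y * t = x * (t * t) * y * t := by rw [t2, mul_one]
        rw [this]; group
      rw [e]; exact mul_mem hx (hA' y hy)
    · left
      show x * y ∈ A
      have e : x * y = (x * t) * (t * (y * t) * t) := by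
        calc x * y = x * (t * t) * y * (t * t) := by rw [t2, mul_one, mul_one]
          _ = _ := by group
      rw [e]; exact mul_mem hx (hA' _ hy)
  inv_mem' := by
    have ti := t_inv' t2
    have hA' : ∀ a ∈ A, t * a * t ∈ A := by intro a ha; have := hA a ha; rwa [ti] at this
    rintro x (hx | hx)
    · exact Or.inl (inv_mem hx)
    · right
      show x⁻¹ * t ∈ A
      have e : x⁻¹ * t = t * (x * t)⁻¹ * t := by
        rw [mul_inv_rev, ti, ← mul_assoc t t x⁻¹, t2, one_mul]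
      rw [e]; exact hA' _ (inv_mem hx)

theorem mem_AT {A : Subgroup G} {hA : ∀ a ∈ A, t * a * t⁻¹ ∈ A} {x : G} : x ∈ AT t2 A hA ↔ x ∈ A ∨ x * t ∈ A := Iff.rfl

theorem le_AT {A : Subgroup G} {hA : ∀ a ∈ A, t * a * t⁻¹ ∈ A} : A ≤ AT t2 A hA := fun x hx => Or.inl hx

theorem t_mem_AT {A : Subgroup G} {hA : ∀ a ∈ A, t * a * t⁻¹ ∈ A} : t ∈ AT t2 A hA :=
  Or.inr (by rw [t2]; exact one_mem A)

theorem AT_two {A : Subgroup G} {hA : ∀ a ∈ A, t * a * t⁻¹ ∈ A} (h2 : IsPGroup 2 A) : IsPGroup 2 (AT t2 A hA) := by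
  rintro ⟨x, hx⟩
  -- `x² ∈ A`
  have hxx : x * x ∈ A := by
    rcases hx with hx | hx
    · exact mul_mem hx hx
    · have ti := t_inv' t2
      have e : x * x = (x * t) * (t * (x * t) * t⁻¹) := by
        calc x * x = x * (t * t) * x * (t * t⁻¹) := by rw [t2, mul_one, mul_inv_cancel, mul_one]
          _ = _ := by group
      rw [e]; exact mul_mem hx (hA _ hx)
  obtain ⟨k, hk⟩ := h2 ⟨x * x, hxx⟩
  refine ⟨k + 1, ?_⟩
  apply Subtype.ext
  have hk' : (x * x) ^ 2 ^ k = 1 := congrArg Subtype.val hk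
  show x ^ 2 ^ (k + 1) = 1
  rw [pow_succ' 2 k, pow_mul, pow_two]
  exact hk'

/-- **`t`-invariant Sylow subgroups**, and `A ⟨t⟩` is Sylow in `D ⟨t⟩` -/
theorem maxTwo_AT [Finite G] {D A : Subgroup G} {hD : ∀ a ∈ D, t * a * t⁻¹ ∈ D} {hA : ∀ a ∈ A, t * a * t⁻¹ ∈ A}
    (h : MaxTwo D A) : MaxTwo (AT t2 D hD) (AT t2 A hA) where
  le := by
    rintro x (hx | hx)
    · exact Or.inl (h.le hx)
    · exact Or.inr (h.le hx)
  two := AT_two t2 h.two
  max := by
    intro Q hQ hQ2 hAQ x hx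
    have h1 : Q ⊓ D ≤ A := h.max _ inf_le_right (hQ2.to_le inf_le_left)
      (le_inf ((le_AT t2).trans hAQ) h.le)
    rcases hQ hx with hxD | hxD
    · exact Or.inl (h1 ⟨hx, hxD⟩)
    · exact Or.inr (h1 ⟨mul_mem hx (hAQ (t_mem_AT t2)), hxD⟩)

theorem exists_inv [Finite G] {D A : Subgroup G} (hD : ∀ a ∈ D, t * a * t⁻¹ ∈ D) (hA : ∀ a ∈ A, t * a * t⁻¹ ∈ A)
    (hAD : A ≤ D) (hA2 : IsPGroup 2 A) : ∃ S, A ≤ S ∧ (∀ a ∈ S, t * a * t⁻¹ ∈ S) ∧ MaxTwo D S := by
  have hle : AT t2 A hA ≤ AT t2 D hD := by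
    rintro x (hx | hx)
    · exact Or.inl (hAD hx)
    · exact Or.inr (hAD hx)
  obtain ⟨P, hAP, hP⟩ := exists_maxTwo hle (AT_two t2 hA2)
  have htP : t ∈ P := hAP (t_mem_AT t2)
  refine ⟨P ⊓ D, le_inf ((le_AT t2).trans hAP) hAD, ?_, inf_le_right, hP.two.to_le inf_le_left, ?_⟩
  · rintro a ⟨ha, haD⟩
    exact Subgroup.mem_inf.2 ⟨P.mul_mem (P.mul_mem htP ha) (P.inv_mem htP), hD a haD⟩
  · intro Q hQD hQ2 hSQ
    obtain ⟨g, hg, hgQ⟩ := hP.conj_le (hQD.trans (le_AT t2)) hQ2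
    -- may take `g ∈ D`
    obtain ⟨d, hd, hdQ⟩ : ∃ d ∈ D, ∀ x ∈ Q, d * x * d⁻¹ ∈ P := by
      rcases hg with hg | hg
      · exact ⟨g, hg, hgQ⟩
      · have hg2 : t * g ∈ D := by
          have := hD _ hg
          have ti := t_inv' t2
          have e : t * (g * t) * t⁻¹ = t * g := by group
          rwa [e] at this
        refine ⟨t * g, hg2, fun x hx => ?_⟩
        have e : t * g * x * (t * g)⁻¹ = t * (g * x * g⁻¹) * t⁻¹ := by group
        rw [e]
        exact mul_mem (mul_mem htP (hgQ x hx)) (inv_mem htP)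
    -- `d Q d⁻¹ ≤ P ⊓ D ≤ Q`, so equality
    have hS2 : ∀ x ∈ Q, d * x * d⁻¹ ∈ P ⊓ D := fun x hx =>
      Subgroup.mem_inf.2 ⟨hdQ x hx, D.mul_mem (D.mul_mem hd (hQD hx)) (D.inv_mem hd)⟩
    let f : Q → (P ⊓ D : Subgroup G) := fun x => ⟨d * x * d⁻¹, hS2 x x.2⟩
    have hf : Function.Injective f := by
      intro a b hab
      have e : d * (a : G) * d⁻¹ = d * b * d⁻¹ := congrArg Subtype.val hab
      exact Subtype.ext (mul_left_cancel (mul_right_cancel e))
    have hc1 : Nat.card Q ≤ Nat.card (P ⊓ D : Subgroup G) := Nat.card_le_card_of_injective f hf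
    have hc2 := Subgroup.eq_of_le_of_card_ge hSQ hc1
    exact hc2.ge

end

/-! ### `t`-free Sylow subgroups -/

/-- an automorphism of order 2 of a 2-group has a non-trivial fixed point -/
theorem exists_fixed {Q : Type*} [Group Q] [Finite Q] [Nontrivial Q] (hQ : IsPGroup 2 Q) (f : Q →* Q)
    (hf : ∀ x, f (f x) = x) : ∃ x, x ≠ 1 ∧ f x = x := by
  by_contra hcon
  push Not at hcon
  obtain ⟨k, hk⟩ := IsPGroup.iff_card.1 hQ
  have hk0 : k ≠ 0 := by
    rintro rfl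
    rw [pow_zero] at hk
    have := Finite.one_lt_card (α := Q)
    omega
  obtain ⟨y, hy⟩ := exists_prime_orderOf_dvd_card' (G := Q) 2 (by rw [hk]; exact dvd_pow_self 2 hk0)
  have hinj : Function.Injective (fun x : Q => x⁻¹ * f x) := by
    intro a b hab
    have e : a⁻¹ * f a = b⁻¹ * f b := hab
    have e2 : f (b * a⁻¹) = b * a⁻¹ := by
      rw [map_mul, map_inv]
      calc f b * (f a)⁻¹ = b * (b⁻¹ * f b) * (f a)⁻¹ := by group
        _ = b * (a⁻¹ * f a) * (f a)⁻¹ := by rw [e]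
        _ = b * a⁻¹ := by group
    by_contra hne
    exact hcon (b * a⁻¹) (fun h => hne (mul_inv_eq_one.1 h).symm) e2
  obtain ⟨x, hx⟩ := Finite.surjective_of_injective hinj y
  have hx' : x⁻¹ * f x = y := hx
  have h1 : f y = y⁻¹ := by
    rw [← hx', map_mul, map_inv, hf]; group
  have hy2 : y * y = 1 := by
    have := pow_orderOf_eq_one y
    rwa [hy, pow_two] at this
  have hy1 : y ≠ 1 := by
    rintro rfl
    rw [orderOf_one] at hy
    omega
  apply hcon y hy1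
  rw [h1]; exact inv_eq_of_mul_eq_one_left hy2

/-- a `t`-free 2-subgroup of `D` containing `C_D(t)` is Sylow -/
theorem maxTwo_of_free [Finite G] {t : G} (t2 : t * t = 1) {τ : G →* G} (hτ : ∀ x, τ x = t * x * t⁻¹)
    {D A K : Subgroup G} (hD : ∀ a ∈ D, t * a * t⁻¹ ∈ D) (hA : Dbl τ A K) (hAD : A ≤ D) (hA2 : IsPGroup 2 A)
    (hf : ∀ d ∈ D, τ d = d → d ∈ A) : MaxTwo D A := by
  have ti : t⁻¹ = t := inv_eq_of_mul_eq_one_left t2
  have tt : ∀ x, τ (τ x) = x := by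
    intro x
    rw [hτ, hτ, ti]
    calc t * (t * x * t) * t = (t * t) * x * (t * t) := by group
      _ = x := by rw [t2]; group
  have hAi : ∀ a ∈ A, t * a * t⁻¹ ∈ A := fun a ha => by rw [← hτ]; exact hA.inv a ha
  obtain ⟨S, hAS, hSi, hS⟩ := exists_inv t2 hD hAi hAD hA2
  suffices h : S ≤ A by
    have := le_antisymm hAS h
    rw [this]; exact hS
  by_contra hne
  -- `A < S`, so `A < N_S(A) = M`
  have hlt : A < S := lt_of_le_of_ne hAS fun h => hne h.ge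
  set N : Subgroup G := Subgroup.normalizer (A : Set G) with hN
  have hM : A < N ⊓ S := by
    have hS2 : IsPGroup 2 S := hS.two
    haveI : Group.IsNilpotent S := hS2.isNilpotent
    have hlt2 : A.subgroupOf S < Subgroup.normalizer (A.subgroupOf S : Set S) := by
      apply Group.normalizerCondition_of_isNilpotent
      rw [lt_top_iff_ne_top]
      intro h
      rw [Subgroup.subgroupOf_eq_top] at h
      exact hne h
    obtain ⟨x, hx1, hx2⟩ := SetLike.exists_of_lt hlt2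
    refine lt_of_le_of_ne (le_inf Subgroup.le_normalizer hAS) ?_
    intro h
    apply hx2
    rw [Subgroup.mem_subgroupOf]
    rw [h]
    refine Subgroup.mem_inf.2 ⟨?_, x.2⟩
    rw [hN, Subgroup.mem_normalizer_iff]
    intro y
    rw [Subgroup.mem_normalizer_iff] at hx1
    constructor
    · intro hy
      exact (hx1 ⟨y, hAS hy⟩).1 hy
    · intro hy
      have hyS : y ∈ S := by
        have e : y = (x : G)⁻¹ * (x * y * (x : G)⁻¹) * x := by group
        rw [e]; exact mul_mem (mul_mem (inv_mem x.2) (hAS hy)) x.2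
      exact (hx1 ⟨y, hyS⟩).2 hy
  -- `t` acts on the 2-group `M / A`
  set M : Subgroup G := N ⊓ S with hMd
  have hMi : ∀ a ∈ M, τ a ∈ M := by
    intro a haM
    obtain ⟨ha, haS⟩ := Subgroup.mem_inf.1 haM
    refine Subgroup.mem_inf.2 ⟨?_, by rw [hτ]; exact hSi a haS⟩
    have ha' := Subgroup.mem_normalizer_iff.1 ha
    show τ a ∈ Subgroup.normalizer (A : Set G)
    rw [Subgroup.mem_normalizer_iff]
    intro h
    have e : τ a * h * (τ a)⁻¹ = τ (a * τ h * a⁻¹) := by rw [map_mul, map_mul, map_inv, tt]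
    rw [e]
    constructor
    · intro hh
      exact hA.inv _ ((ha' _).1 (hA.inv _ hh))
    · intro hh
      have h1 := hA.inv _ hh
      rw [tt] at h1
      have h2 := hA.inv _ ((ha' _).2 h1)
      rwa [tt] at h2
  haveI hnorm : (A.subgroupOf M).Normal := by
    refine ⟨fun a ha g => ?_⟩
    rw [Subgroup.mem_subgroupOf] at ha ⊢
    exact (Subgroup.mem_normalizer_iff.1 g.2.1 _).1 ha
  -- the action
  let f : M →* M :=
    { toFun := fun x => ⟨τ x, hMi x x.2⟩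
      map_one' := Subtype.ext (map_one τ)
      map_mul' := fun x y => Subtype.ext (map_mul τ _ _) }
  have hff : ∀ x, f (f x) = x := fun x => Subtype.ext (tt x)
  have hcomap : A.subgroupOf M ≤ (A.subgroupOf M).comap f := by
    intro x hx
    rw [Subgroup.mem_comap, Subgroup.mem_subgroupOf]
    exact hA.inv _ hx
  let fq : M ⧸ A.subgroupOf M →* M ⧸ A.subgroupOf M := QuotientGroup.map _ _ f hcomap
  have hfq : ∀ x, fq (fq x) = x := by
    intro x
    obtain ⟨y, rfl⟩ := QuotientGroup.mk_surjective x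
    show ((f (f y) : M) : M ⧸ A.subgroupOf M) = y
    rw [hff]
  -- the number of elements is even
  have hM2 : IsPGroup 2 M := hS.two.to_le inf_le_right
  have hQ2 : IsPGroup 2 (M ⧸ A.subgroupOf M) := hM2.to_quotient _
  have hQne : Nontrivial (M ⧸ A.subgroupOf M) := by
    rw [QuotientGroup.nontrivial_iff]
    intro h
    rw [Subgroup.subgroupOf_eq_top] at h
    exact absurd (le_antisymm hM.le h) hM.ne
  obtain ⟨x, hx1, hx⟩ := exists_fixed hQ2 fq hfq
  obtain ⟨y, rfl⟩ := QuotientGroup.mk_surjective x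
  have hyf : (y : G)⁻¹ * τ y ∈ A := by
    have h1 : ((f y : M) : M ⧸ A.subgroupOf M) = y := hx
    have h2 := QuotientGroup.eq.1 h1.symm
    exact h2
  obtain ⟨a, ha, hya⟩ := hA.exists_fix tt hyf
  have hyA : (y : G) * a ∈ A := hf _ (mul_mem (hS.le y.2.2) (hAD ha)) hya
  apply hx1
  rw [QuotientGroup.eq_one_iff, Subgroup.mem_subgroupOf]
  have := mul_mem hyA (inv_mem ha)
  rwa [mul_inv_cancel_right] at this

/-- all `t`-invariant Sylow 2-subgroups of `D` are `t`-free if one is -/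
theorem free_of_free [Finite G] {t : G} (t2 : t * t = 1) {τ : G →* G} (hτ : ∀ x, τ x = t * x * t⁻¹)
    {D A B : Subgroup G} (hD : ∀ a ∈ D, t * a * t⁻¹ ∈ D) (htD : t ∉ D) (hA : MaxTwo D A) (hB : MaxTwo D B)
    (hAi : ∀ a ∈ A, t * a * t⁻¹ ∈ A) (hBi : ∀ a ∈ B, t * a * t⁻¹ ∈ B)
    (hf : ∀ s ∈ A, s * τ s = 1 → ∃ r ∈ A, s = r * (τ r)⁻¹) :
    ∀ s ∈ B, s * τ s = 1 → ∃ r ∈ B, s = r * (τ r)⁻¹ := by
  have ti : t⁻¹ = t := inv_eq_of_mul_eq_one_left t2
  intro s hs hss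
  have h1 : MaxTwo (AT t2 D hD) (AT t2 A hAi) := maxTwo_AT t2 hA
  have h2 : MaxTwo (AT t2 D hD) (AT t2 B hBi) := maxTwo_AT t2 hB
  obtain ⟨g0, hg0, hg0P⟩ := h2.conj h1
  -- may take `g ∈ D`
  obtain ⟨g, hg, hgP⟩ : ∃ g ∈ D, ∀ x, x ∈ AT t2 B hBi ↔ g * x * g⁻¹ ∈ AT t2 A hAi := by
    rcases hg0 with hg | hg
    · exact ⟨g0, hg, hg0P⟩
    · refine ⟨t * g0, ?_, fun x => ?_⟩
      · have := hD _ hg
        have e : t * (g0 * t) * t⁻¹ = t * g0 := by group
        rwa [e] at this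
      · rw [hg0P]
        have htA : t ∈ AT t2 A hAi := t_mem_AT t2
        have e : t * g0 * x * (t * g0)⁻¹ = t * (g0 * x * g0⁻¹) * t⁻¹ := by group
        rw [e]
        constructor
        · intro h; exact mul_mem (mul_mem htA h) (inv_mem htA)
        · intro h
          have := mul_mem (mul_mem (inv_mem htA) h) htA
          have e2 : t⁻¹ * (t * (g0 * x * g0⁻¹) * t⁻¹) * t = g0 * x * g0⁻¹ := by group
          rwa [e2] at this
  -- involutions of `t B` : `u = b t`, `b τ b = 1`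
  have key : ∀ b ∈ B, b * τ b = 1 → ∃ a ∈ A, g * (b * t) * g⁻¹ = a * t * a⁻¹ := by
    intro b hb hbb
    have hu : b * t ∈ AT t2 B hBi := mul_mem (le_AT t2 hb) (t_mem_AT t2)
    have h3 := (hgP _).1 hu
    have huD : b * t ∉ D := by
      intro h
      apply htD
      have := mul_mem (inv_mem (hB.le hb)) h
      rwa [inv_mul_cancel_left] at this
    have h4 : g * (b * t) * g⁻¹ ∉ D := by
      intro h
      apply huD
      have := mul_mem (mul_mem (inv_mem hg) h) hg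
      have e : g⁻¹ * (g * (b * t) * g⁻¹) * g = b * t := by group
      rwa [e] at this
    have h5 : g * (b * t) * g⁻¹ * t ∈ A := h3.resolve_left fun h => h4 (hA.le h)
    obtain ⟨c, hc⟩ : ∃ c, c = g * (b * t) * g⁻¹ * t := ⟨_, rfl⟩
    have hct : g * (b * t) * g⁻¹ = c * t := by
      rw [hc, mul_assoc (g * (b * t) * g⁻¹) t t, t2, mul_one]
    have hbt : (b * t) * (b * t) = 1 := by
      rw [hτ, ti] at hbb
      calc (b * t) * (b * t) = b * (t * b * t) := by group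
        _ = 1 := hbb
    have hcc : c * τ c = 1 := by
      rw [hτ, ti]
      calc c * (t * c * t) = (c * t) * (c * t) := by group
        _ = g * ((b * t) * (b * t)) * g⁻¹ := by rw [← hct]; group
        _ = 1 := by rw [hbt]; group
    obtain ⟨a, ha, hca⟩ := hf c (hc ▸ h5) hcc
    refine ⟨a, ha, ?_⟩
    rw [hct, hca, hτ, ti]
    calc a * (t * a * t)⁻¹ * t = a * (t⁻¹ * a⁻¹ * t⁻¹) * t := by group
      _ = a * t * a⁻¹ := by rw [ti, mul_assoc, mul_assoc, mul_assoc, t2, mul_one, mul_assoc]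
  obtain ⟨a, ha, h3⟩ := key s hs hss
  obtain ⟨a', ha', h4⟩ := key 1 (one_mem _) (by rw [map_one, one_mul])
  rw [one_mul] at h4
  -- `r = g⁻¹ a a'⁻¹ g`
  have hr : g⁻¹ * (a * a'⁻¹) * g ∈ B := by
    have h5 : g⁻¹ * (a * a'⁻¹) * g ∈ AT t2 B hBi := by
      rw [hgP]
      have e : g * (g⁻¹ * (a * a'⁻¹) * g) * g⁻¹ = a * a'⁻¹ := by group
      rw [e]
      exact le_AT t2 (mul_mem ha (inv_mem ha'))
    rcases h5 with h5 | h5
    · exact h5
    · exfalso
      apply htD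
      have h6 : g⁻¹ * (a * a'⁻¹) * g ∈ D := mul_mem (mul_mem (inv_mem hg) (mul_mem (hA.le ha) (inv_mem (hA.le ha')))) hg
      have := mul_mem (inv_mem h6) (hB.le h5)
      rwa [inv_mul_cancel_left] at this
  refine ⟨_, hr, ?_⟩
  have e1 : s * t = g⁻¹ * (a * t * a⁻¹) * g := by rw [← h3]; group
  have e2 : t = g⁻¹ * (a' * t * a'⁻¹) * g := by rw [← h4]; group
  have e3 : s = (g⁻¹ * (a * t * a⁻¹) * g) * t := by rw [← e1, mul_assoc, t2, mul_one]
  have e4 : (g⁻¹ * (a * a'⁻¹) * g) * t * (g⁻¹ * (a * a'⁻¹) * g)⁻¹ = g⁻¹ * (a * t * a⁻¹) * g := by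
    calc (g⁻¹ * (a * a'⁻¹) * g) * t * (g⁻¹ * (a * a'⁻¹) * g)⁻¹ =
        (g⁻¹ * (a * a'⁻¹) * g) * (g⁻¹ * (a' * t * a'⁻¹) * g) * (g⁻¹ * (a * a'⁻¹) * g)⁻¹ := by rw [← e2]
      _ = _ := by group
  obtain ⟨ρ, hρ⟩ : ∃ ρ, ρ = g⁻¹ * (a * a'⁻¹) * g := ⟨_, rfl⟩
  rw [← hρ] at e4 ⊢
  rw [e3, ← e4, hτ, ti]
  calc ρ * t * ρ⁻¹ * t = ρ * (t * ρ⁻¹ * t) := by group
    _ = ρ * (t⁻¹ * ρ⁻¹ * t⁻¹) := by rw [ti]
    _ = ρ * (t * ρ * t)⁻¹ := by group

end Cfsg.Agent.OddHalf.D7TwF4.Syl.Free
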