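import Cfsg.Agent.OddHalf.D7TwF4.Growth.Frame

/-!
# Growth for `²F₄(q)` with Sylow subgroups: the input (helper224; text bb ODD 14326)

`InpS` is `Growth.Defs.Inp` with the fields which are really used, and the three torus triples `Kf`.
-/

set_option autoImplicit false
set_option linter.unusedVariables false

namespace Cfsg.Agent.OddHalf.D7TwF4.Syl.Inp

open Cfsg.Agent.OddHalf.D7TwF4.Growth.Defs Cfsg.Agent.OddHalf.D7TwF4.Growth.Tools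
open Cfsg.Agent.OddHalf.D7TwF4.Growth.Frame (F F_F F_id gen)

universe u

variable {G : Type u} [Group G]

/-- The facts in the standard position. -/
structure BaseS (τ : G →* G) (X Y W : ℤ → Subgroup G) : Prop where
  w01 : Cm (W 0) (W 1)
  w02 : Cm (W 0) (W 2)
  w11 : Cm (W (-1)) (W 1)
  w12 : Cm (W (-1)) (W 2)
  w22 : Cm (W (-2)) (W 2)
  x0w2 : Cm (X 0) (W 2)
  x3w0 : Cm (X 3) (W 0)
  x4w0 : Cm (X 4) (W 0)
  c12 : Cl (W (-1)) (X 2) (W 0)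
  c13 : Cl (W (-1)) (X 3) (W 0)
  c23 : Cl (W (-2)) (X 3) (W 0)
  /-- 135 degrees -/
  w24 : Cl (W (-2)) (W 4) (EK W)
  /-- `M = ⟨X₋₃, X₅⟩` on the conjugates of `W₄` -/
  tri : ∀ g ∈ X (-3), g ≠ 1 → ∃ h ∈ X 5, ∀ w, w ∈ W 4 ↔ h⁻¹ * (g * w * g⁻¹) * h ∈ W (-2)
  /-- `[X₋₃, Z₂] ≠ 1` -/
  kc : ∀ c ∈ X (-3), (∀ y ∈ Y 2, c * y = y * c) → c = 1
  -- generation
  k2 : NK X Y ≤ Subgroup.closure {g | g ∈ Y 4 ∨ ∃ x ∈ X 5, ∃ y ∈ Y (-2), g = x * y * x⁻¹} ⊔ EK Y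
  -- centralisers in `C(t)`
  k1 : ∀ c, τ c = c → (∀ w ∈ W 0, c * w = w * c) → (∀ x ∈ X 1, c * x = x * c) → (∀ y ∈ Y 2, c * y = y * c) →
    c ∈ NK X Y
  k7 : ∀ c, τ c = c → (∀ w ∈ W 0, c * w = w * c) → (∀ y ∈ Y 2, c * y = y * c) → c ∈ QpK X Y ⊔ X 4
  -- independence of the root groups
  i01 : Y 0 ⊓ Y 1 = ⊥
  i012 : (Y 0 ⊔ Y 1) ⊓ Y 2 = ⊥

/-- The input. -/
structure InpS (τ : G →* G) (X Y W T : ℤ → Subgroup G) : Prop extends Gen τ X Y W T where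
  fr : ∀ c e : ℤ, e = 1 ∨ e = -1 → BaseS τ (F c e X) (F c e Y) (F c e W)

/-- `Growth.Defs.Inp` is enough -/
theorem ofInp {τ : G →* G} {X Y W T : ℤ → Subgroup G} (h : Growth.Defs.Inp τ X Y W T) : InpS τ X Y W T where
  toGen := h.toGen
  fr c e he := by
    have b := h.fr c e he
    exact ⟨b.w01, b.w02, b.w11, b.w12, b.w22, b.x0w2, b.x3w0, b.x4w0, b.c12, b.c13, b.c23, b.w24, b.tri, b.kc,
      b.k2, b.k1, b.k7, b.i01, b.i012⟩

theorem inp {τ : G →* G} {X Y W T : ℤ → Subgroup G} (h : InpS τ X Y W T) (c : ℤ) {e : ℤ} (he : e = 1 ∨ e = -1) :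
    InpS τ (F c e X) (F c e Y) (F c e W) (F c e T) where
  toGen := gen h.toGen he
  fr c' e' he' := by
    have h1 := h.fr (c + e * c') (e * e') (by
      rcases he with rfl | rfl <;> rcases he' with rfl | rfl <;> norm_num)
    rw [F_F, F_F, F_F]
    exact h1

theorem base {τ : G →* G} {X Y W T : ℤ → Subgroup G} (h : InpS τ X Y W T) : BaseS τ X Y W := by
  have h1 := h.fr 0 1 (Or.inl rfl)
  rwa [F_id, F_id, F_id] at h1

/-- the reflection `k ↦ -k` -/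
theorem neg {τ : G →* G} {X Y W T : ℤ → Subgroup G} (h : InpS τ X Y W T) :
    InpS τ (F 0 (-1) X) (F 0 (-1) Y) (F 0 (-1) W) (F 0 (-1) T) := inp h 0 (Or.inr rfl)

/-- the reflection `k ↦ 2 - k` -/
theorem ref {τ : G →* G} {X Y W T : ℤ → Subgroup G} (h : InpS τ X Y W T) :
    InpS τ (F 1 (-1) X) (F 1 (-1) Y) (F 1 (-1) W) (F 1 (-1) T) := inp h 1 (Or.inr rfl)

/-- the shift `k ↦ 2 c + k` -/
theorem sh {τ : G →* G} {X Y W T : ℤ → Subgroup G} (h : InpS τ X Y W T) (c : ℤ) :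
    InpS τ (F c 1 X) (F c 1 Y) (F c 1 W) (F c 1 T) := inp h c (Or.inl rfl)

/-- the reflection `k ↦ 2 c - k` -/
theorem rf {τ : G →* G} {X Y W T : ℤ → Subgroup G} (h : InpS τ X Y W T) (c : ℤ) :
    InpS τ (F c (-1) X) (F c (-1) Y) (F c (-1) W) (F c (-1) T) := inp h c (Or.inr rfl)

end Cfsg.Agent.OddHalf.D7TwF4.Syl.Inp
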