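import Cfsg.Agent.OddHalf.D7TwF4.Syl.RHat
import Cfsg.Agent.OddHalf.D7TwF4.Growth.KRel
import Cfsg.Agent.KFacts.TwF4.TorEx

/-!
# The torus triples `Kf` for `²F₄(q)`, `q ≥ 8` (helper224)
-/

set_option autoImplicit false
set_option linter.unusedVariables false
set_option linter.unusedSectionVars false

namespace Cfsg.Agent.OddHalf.D7TwF4.Syl.KfInst

open Cfsg.Agent.SplitTwo Cfsg.Agent.SplitTwo.ZS Cfsg.Agent.TitsThree.RankTwoZ Cfsg.Agent.SplitTwo.RootSysZ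
open Cfsg.Agent.KFacts.TwF4 Cfsg.Agent.KFacts.TwF4.Arc Cfsg.Agent.KFacts.TwF4.TorEx
open Cfsg.Agent.OddHalf.D7TwF4.Syl.RHat Cfsg.Agent.OddHalf.D7TwF4.Growth.KInst

universe u

variable {F : Type*} [Field F] {σ : F →+* F} {G : Type u} [Group G] (S : Full σ G)

/-! ### field facts -/

include S in
theorem add_map_ne {x : F} (h0 : x ≠ 0) (h1 : x ≠ 1) : x + σ x ≠ 0 := by
  intro h
  have hx : σ x = x := by
    have h2 := char2 S x
    have : x + σ x = x + x := by rw [h, h2]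
    exact add_left_cancel this
  have h3 := S.sq x
  rw [hx, hx, pow_two] at h3
  apply h1
  have : x * 1 = x * x := by rw [mul_one]; exact h3
  exact (mul_left_cancel₀ h0 this).symm

include S in
theorem g_add (x : F) : (1 + x) * σ (1 + x) = 1 + x * σ x + (x + σ x) := by
  rw [map_add, map_one]; ring

include S in
/-- `x ↦ x σ(x)` is surjective -/
theorem exists_g [Finite F] (y : F) (hy : y ≠ 0) : ∃ x : Fˣ, (x : F) * σ (x : F) = y := by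
  obtain ⟨w, hw⟩ := exists_pw S (e := (1, 1)) (by decide) (Units.mk0 y hy)
  refine ⟨w, ?_⟩
  have h := congrArg Units.val hw
  unfold pw at h
  rw [zpow_one, zpow_one] at h
  exact h

include S in
/-- `Σ a σ(a) = 0 ≠ Σ a` -/
theorem tri1 [Finite F] (hF : ∃ x : F, x ≠ 0 ∧ x ≠ 1) : ∃ a b c : Fˣ, (a : F) * σ a + b * σ (b : F) + c * σ (c : F) = 0 ∧
    (a : F) + b + c ≠ 0 := by
  obtain ⟨x, h0, h1⟩ := hF
  have hne := add_map_ne S h0 h1
  have hgne : 1 + x * σ x ≠ 0 := by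
    intro h
    have h2 : x * σ x = 1 := by
      have : 1 + x * σ x = 1 + 1 := by rw [h, char2 S]
      exact add_left_cancel this
    apply h1
    have h3 := S.unit_eq_one (x := Units.mk0 x h0) (Units.ext h2)
    exact congrArg Units.val h3
  obtain ⟨y, hy⟩ := exists_g S _ hgne
  refine ⟨1, Units.mk0 x h0, y, ?_, ?_⟩
  · rw [hy, Units.val_one, map_one, Units.val_mk0, mul_one, char2 S]
  · intro h
    rw [Units.val_one, Units.val_mk0] at h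
    have h4 : (y : F) = 1 + x := by
      have : (1 + x) + y = (1 + x) + (1 + x) := by rw [h, char2 S]
      exact add_left_cancel this
    rw [h4, g_add S] at hy
    apply hne
    have : 1 + x * σ x + (x + σ x) = 1 + x * σ x + 0 := by rw [hy, add_zero]
    exact add_left_cancel this

include S in
/-- `Σ a = 0 ≠ Σ a σ(a)` -/
theorem tri2 (hF : ∃ x : F, x ≠ 0 ∧ x ≠ 1) : ∃ a b c : Fˣ, (a : F) + b + c = 0 ∧
    (a : F) * σ a + b * σ (b : F) + c * σ (c : F) ≠ 0 := by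
  obtain ⟨x, h0, h1⟩ := hF
  have hne := add_map_ne S h0 h1
  have h2 : 1 + x ≠ 0 := by
    intro h
    apply h1
    have : 1 + x = 1 + 1 := by rw [h, char2 S]
    exact add_left_cancel this
  refine ⟨1, Units.mk0 x h0, Units.mk0 (1 + x) h2, ?_, ?_⟩
  · rw [Units.val_one, Units.val_mk0, Units.val_mk0, char2 S]
  · rw [Units.val_one, Units.val_mk0, Units.val_mk0, g_add S, map_one, mul_one, ← add_assoc, char2 S, zero_add]
    exact hne

/-! ### `A3` on root groups -/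

theorem A3_o (c1 d1 c2 d2 c3 d3 : Fˣ) (b : ZMod 8) (t : F) : A3 (S.h c1 d1) (S.h c2 d2) (S.h c3 d3) (S.o b t) =
    S.o b (((chO σ b c1 d1 : F) + chO σ b c2 d2 + chO σ b c3 d3) * t) := by
  unfold A3
  rw [S.h_o, S.h_o, S.h_o, S.o_add, S.o_add]
  congr 1
  ring

theorem A3_z (c1 d1 c2 d2 c3 d3 : Fˣ) (b : ZMod 8) (u : F) : A3 (S.h c1 d1) (S.h c2 d2) (S.h c3 d3) (S.e b 0 u) =
    S.e b 0 (((chE σ b c1 d1 : F) * σ (chE σ b c1 d1 : F) + chE σ b c2 d2 * σ (chE σ b c2 d2 : F) +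
      chE σ b c3 d3 * σ (chE σ b c3 d3 : F)) * u) := by
  unfold A3
  rw [S.h_e, S.h_e, S.h_e, mul_zero, mul_zero, mul_zero, S.e_mul, S.e_mul]
  congr 1
  · ring
  · rw [map_zero]; ring

theorem A3_e (c1 d1 c2 d2 c3 d3 : Fˣ) (b : ZMod 8) (p u : F) : ∃ v, A3 (S.h c1 d1) (S.h c2 d2) (S.h c3 d3) (S.e b p u) =
    S.e b (((chE σ b c1 d1 : F) + chE σ b c2 d2 + chE σ b c3 d3) * p) v := by
  unfold A3
  rw [S.h_e, S.h_e, S.h_e, S.e_mul, S.e_mul, show ((chE σ b c1 d1 : F) + chE σ b c2 d2 + chE σ b c3 d3) * p =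
    (chE σ b c1 d1 : F) * p + chE σ b c2 d2 * p + chE σ b c3 d3 * p by ring]
  exact ⟨_, rfl⟩

/-- the torus element with parameter `w` -/
def hw (σ : F →+* F) (S : Full σ G) (x : (ℤ × ℤ) × (ℤ × ℤ)) (w : Fˣ) : G := S.h (pw σ w x.1) (pw σ w x.2)

include S in
/-- the element of `Fˣ` with `pw w v = τ` -/
theorem exists_w [Finite F] {v : ℤ × ℤ} (hv : Good v) (τ : Fˣ) : ∃ w : Fˣ, pw σ w v = τ ∧ pw σ w (sh v) = Units.map (σ : F →* F) τ ∧
    pw σ w (v + sh v) = τ * Units.map (σ : F →* F) τ ∧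
    pw σ w (sh (v + sh v)) = Units.map (σ : F →* F) (τ * Units.map (σ : F →* F) τ) := by
  obtain ⟨w, hw⟩ := exists_pw S hv τ
  have h1 : pw σ w (sh v) = Units.map (σ : F →* F) τ := by rw [← map_pw S.sq, hw]
  have h2 : pw σ w (v + sh v) = τ * Units.map (σ : F →* F) τ := by rw [← pw_mul, hw, h1]
  exact ⟨w, hw, h1, h2, by rw [← map_pw S.sq, h2]⟩

/-- triple `A`: `T` with exponents `x`, `v` = character of the root group where `A3` is injective -/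
theorem triple1 [Finite F] (hF : ∃ x : F, x ≠ 0 ∧ x ≠ 1) (x : (ℤ × ℤ) × (ℤ × ℤ)) {v : ℤ × ℤ} (hv : Good v) :
    ∃ w1 w2 w3 : Fˣ,
      (∀ b : ZMod 8, eO b x.1 x.2 = v + sh v → ∀ t, A3 (hw σ S x w1) (hw σ S x w2) (hw σ S x w3) (S.o b t) = 1) ∧
      (∀ b : ZMod 8, eE b x.1 x.2 = v ∨ eE b x.1 x.2 = sh v → ∀ u,
        A3 (hw σ S x w1) (hw σ S x w2) (hw σ S x w3) (S.e b 0 u) = 1) ∧
      (∀ b : ZMod 8, eE b x.1 x.2 + sh (eE b x.1 x.2) = v + sh v ∨ eE b x.1 x.2 + sh (eE b x.1 x.2) = sh (v + sh v) → ∀ u,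
        A3 (hw σ S x w1) (hw σ S x w2) (hw σ S x w3) (S.e b 0 u) = 1) ∧
      (∀ b : ZMod 8, eO b x.1 x.2 = v ∨ eO b x.1 x.2 = sh v → ∀ t,
        A3 (hw σ S x w1) (hw σ S x w2) (hw σ S x w3) (S.o b t) = 1 → S.o b t = 1) ∧
      (∀ b : ZMod 8, eE b x.1 x.2 + sh (eE b x.1 x.2) = v → ∀ u,
        A3 (hw σ S x w1) (hw σ S x w2) (hw σ S x w3) (S.e b 0 u) = 1 → S.e b 0 u = 1) := by
  obtain ⟨a, b, c, hab, hne⟩ := tri1 S hF
  obtain ⟨w1, p1, q1, r1, s1⟩ := exists_w S hv a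
  obtain ⟨w2, p2, q2, r2, s2⟩ := exists_w S hv b
  obtain ⟨w3, p3, q3, r3, s3⟩ := exists_w S hv c
  have hne' : σ (a : F) + σ (b : F) + σ (c : F) ≠ 0 := by
    rw [← map_add, ← map_add]
    exact (map_ne_zero σ).2 hne
  have habσ : σ ((a : F) * σ a) + σ (b * σ (b : F)) + σ (c * σ (c : F)) = 0 := by
    rw [← map_add, ← map_add, hab, map_zero]
  have zc : ∀ w : Fˣ, ∀ e : ℤ × ℤ, (pw σ w e : F) * σ (pw σ w e : F) = (pw σ w (e + sh e) : F) := by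
    intro w e
    rw [← pw_mul, ← map_pw S.sq]; rfl
  have hz : ∀ b : ZMod 8, eE b x.1 x.2 + sh (eE b x.1 x.2) = v + sh v ∨
      eE b x.1 x.2 + sh (eE b x.1 x.2) = sh (v + sh v) → ∀ u,
        A3 (hw σ S x w1) (hw σ S x w2) (hw σ S x w3) (S.e b 0 u) = 1 := by
    intro b hb u
    unfold hw
    rw [A3_z, chE_pw S.sq, chE_pw S.sq, chE_pw S.sq, zc, zc, zc]
    rcases hb with hb | hb
    · rw [hb, r1, r2, r3]
      have : ((a * Units.map (σ : F →* F) a : Fˣ) : F) + ((_ * Units.map (σ : F →* F) _ : Fˣ) : F) +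
        ((c * Units.map (σ : F →* F) c : Fˣ) : F) = 0 := hab
      rw [this, zero_mul, S.e_zero]
    · rw [hb, s1, s2, s3]
      have : ((Units.map (σ : F →* F) (a * Units.map (σ : F →* F) a) : Fˣ) : F) +
        ((Units.map (σ : F →* F) (_ * Units.map (σ : F →* F) _) : Fˣ) : F) +
        ((Units.map (σ : F →* F) (c * Units.map (σ : F →* F) c) : Fˣ) : F) = 0 := habσ
      rw [this, zero_mul, S.e_zero]
  refine ⟨w1, w2, w3, ?_, ?_, hz, ?_, ?_⟩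
  · intro b hb t
    unfold hw
    rw [A3_o, chO_pw S.sq, chO_pw S.sq, chO_pw S.sq, hb, r1, r2, r3]
    have : ((a * Units.map (σ : F →* F) a : Fˣ) : F) + ((_ * Units.map (σ : F →* F) _ : Fˣ) : F) +
      ((c * Units.map (σ : F →* F) c : Fˣ) : F) = 0 := hab
    rw [this, zero_mul, S.o_zero]
  · intro b hb u
    refine hz b ?_ u
    rcases hb with hb | hb
    · left; rw [hb]
    · right
      rw [hb]
      unfold sh
      ext <;> simp; ring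
  · intro b hb t h
    unfold hw at h
    rw [A3_o, chO_pw S.sq, chO_pw S.sq, chO_pw S.sq] at h
    have h1 : ((pw σ w1 (eO b x.1 x.2) : F) + pw σ w2 (eO b x.1 x.2) + pw σ w3 (eO b x.1 x.2)) * t = 0 :=
      S.injO b (h.trans (S.o_zero b).symm)
    have h2 : ((pw σ w1 (eO b x.1 x.2) : F) + pw σ w2 (eO b x.1 x.2) + pw σ w3 (eO b x.1 x.2)) ≠ 0 := by
      rcases hb with hb | hb
      · rw [hb, p1, p2, p3]; exact hne
      · rw [hb, q1, q2, q3]; exact hne'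
    rw [(mul_eq_zero.1 h1).resolve_left h2, S.o_zero]
  · intro b hb u h
    unfold hw at h
    rw [A3_z, chE_pw S.sq, chE_pw S.sq, chE_pw S.sq, zc, zc, zc] at h
    have h1 := (S.injE b _ _ _ _ (h.trans (S.e_zero b).symm)).2
    have h2 : ((pw σ w1 (eE b x.1 x.2 + sh (eE b x.1 x.2)) : F) + pw σ w2 (eE b x.1 x.2 + sh (eE b x.1 x.2)) +
        pw σ w3 (eE b x.1 x.2 + sh (eE b x.1 x.2))) ≠ 0 := by
      rw [hb, p1, p2, p3]; exact hne
    rw [(mul_eq_zero.1 h1).resolve_left h2, S.e_zero]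

/-- triple `B` -/
theorem triple2 [Finite F] (hF : ∃ x : F, x ≠ 0 ∧ x ≠ 1) (x : (ℤ × ℤ) × (ℤ × ℤ)) {v : ℤ × ℤ} (hv : Good v) :
    ∃ w1 w2 w3 : Fˣ,
      (∀ b : ZMod 8, eE b x.1 x.2 = sh v → ∀ p u, ∃ u',
        A3 (hw σ S x w1) (hw σ S x w2) (hw σ S x w3) (S.e b p u) = S.e b 0 u') ∧
      (∀ b : ZMod 8, eE b x.1 x.2 + sh (eE b x.1 x.2) = v + sh v → ∀ u,
        A3 (hw σ S x w1) (hw σ S x w2) (hw σ S x w3) (S.e b 0 u) = 1 → S.e b 0 u = 1) := by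
  obtain ⟨a, b', c, hab, hne⟩ := tri2 S hF
  obtain ⟨w1, p1, q1, r1, s1⟩ := exists_w S hv a
  obtain ⟨w2, p2, q2, r2, s2⟩ := exists_w S hv b'
  obtain ⟨w3, p3, q3, r3, s3⟩ := exists_w S hv c
  have zc : ∀ w : Fˣ, ∀ e : ℤ × ℤ, (pw σ w e : F) * σ (pw σ w e : F) = (pw σ w (e + sh e) : F) := by
    intro w e
    rw [← pw_mul, ← map_pw S.sq]; rfl
  refine ⟨w1, w2, w3, ?_, ?_⟩
  · intro b hb p u
    unfold hw
    obtain ⟨u', hu'⟩ := A3_e S (pw σ w1 x.1) (pw σ w1 x.2) (pw σ w2 x.1) (pw σ w2 x.2) (pw σ w3 x.1) (pw σ w3 x.2) b p u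
    refine ⟨u', ?_⟩
    rw [hu', chE_pw S.sq, chE_pw S.sq, chE_pw S.sq, hb, q1, q2, q3]
    have : ((Units.map (σ : F →* F) a : Fˣ) : F) + ((Units.map (σ : F →* F) b' : Fˣ) : F) +
        ((Units.map (σ : F →* F) c : Fˣ) : F) = 0 := by
      have h1 : σ (a : F) + σ (b' : F) + σ (c : F) = 0 := by
        rw [← map_add, ← map_add, hab, map_zero]
      exact h1
    rw [this, zero_mul]
  · intro b hb u h
    unfold hw at h
    rw [A3_z, chE_pw S.sq, chE_pw S.sq, chE_pw S.sq, zc, zc, zc] at h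
    have h1 := (S.injE b _ _ _ _ (h.trans (S.e_zero b).symm)).2
    have h2 : ((pw σ w1 (eE b x.1 x.2 + sh (eE b x.1 x.2)) : F) + pw σ w2 (eE b x.1 x.2 + sh (eE b x.1 x.2)) +
        pw σ w3 (eE b x.1 x.2 + sh (eE b x.1 x.2))) ≠ 0 := by
      rw [hb, r1, r2, r3]; exact hne
    rw [(mul_eq_zero.1 h1).resolve_left h2, S.e_zero]

/-! ### the instance -/

/-- `tE`-type elements lie in `T_{2a}` -/
theorem hw_pE_mem (a : ℤ) (w : Fˣ) : hw σ S (pE (a : ZMod 8)) w ∈ S.Tk (2 * a) := by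
  refine ⟨S.mem_T.2 ⟨_, _, rfl⟩, Subgroup.mem_centralizer_iff.2 fun x hx => ?_⟩
  obtain ⟨p, u, rfl⟩ := (S.mem_XZ_even a x).1 hx
  have h1 := fixE S w (a := (a : ZMod 8)) (b := (a : ZMod 8)) (Or.inl rfl) p u
  rw [mul_inv_eq_iff_eq_mul] at h1
  exact h1.symm

theorem hw_pO_mem (a : ℤ) (w : Fˣ) : hw σ S (pO (a : ZMod 8)) w ∈ S.Tk (2 * a + 1) := by
  refine ⟨S.mem_T.2 ⟨_, _, rfl⟩, Subgroup.mem_centralizer_iff.2 fun x hx => ?_⟩
  obtain ⟨t, rfl⟩ := (S.mem_XZ_odd a x).1 hx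
  have h1 := fixO S w (a := (a : ZMod 8)) (b := (a : ZMod 8)) (Or.inl rfl) t
  rw [mul_inv_eq_iff_eq_mul] at h1
  exact h1.symm

/-- the exponent facts, `A` -/
theorem dA1 : ∀ a : ZMod 8, Good (eO (a - 1) (pE a).1 (pE a).2) ∧
    eO (a - 2) (pE a).1 (pE a).2 = eO (a - 1) (pE a).1 (pE a).2 + sh (eO (a - 1) (pE a).1 (pE a).2) ∧
    eE (a - 2) (pE a).1 (pE a).2 + sh (eE (a - 2) (pE a).1 (pE a).2) =
      sh (eO (a - 1) (pE a).1 (pE a).2 + sh (eO (a - 1) (pE a).1 (pE a).2)) := by decide +kernel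

theorem dA2 : ∀ a : ZMod 8, Good (eO a (pE a).1 (pE a).2) ∧
    eO (a + 1) (pE a).1 (pE a).2 = eO a (pE a).1 (pE a).2 + sh (eO a (pE a).1 (pE a).2) ∧
    eE (a + 2) (pE a).1 (pE a).2 + sh (eE (a + 2) (pE a).1 (pE a).2) =
      sh (eO a (pE a).1 (pE a).2 + sh (eO a (pE a).1 (pE a).2)) := by decide +kernel

/-- the exponent facts, `B` -/
theorem dB1 : ∀ a : ZMod 8, ∃ v ∈ ([(1, 0), (-1, 0)] : List (ℤ × ℤ)), eE (a + 2) (pE a).1 (pE a).2 = sh v ∧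
    eE (a + 1) (pE a).1 (pE a).2 + sh (eE (a + 1) (pE a).1 (pE a).2) = v + sh v := by decide +kernel

theorem dB2 : ∀ a : ZMod 8, ∃ v ∈ ([(1, 0), (-1, 0)] : List (ℤ × ℤ)), eE (a - 2) (pE a).1 (pE a).2 = sh v ∧
    eE (a - 1) (pE a).1 (pE a).2 + sh (eE (a - 1) (pE a).1 (pE a).2) = v + sh v := by decide +kernel

/-- the exponent facts, `C` -/
theorem dC1 : ∀ a : ZMod 8, Good (eE (a + 1) (pO a).1 (pO a).2 + sh (eE (a + 1) (pO a).1 (pO a).2)) ∧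
    eE (a + 3) (pO a).1 (pO a).2 + sh (eE (a + 3) (pO a).1 (pO a).2) =
      (eE (a + 1) (pO a).1 (pO a).2 + sh (eE (a + 1) (pO a).1 (pO a).2)) +
        sh (eE (a + 1) (pO a).1 (pO a).2 + sh (eE (a + 1) (pO a).1 (pO a).2)) ∧
    eO (a + 1) (pO a).1 (pO a).2 = sh (eE (a + 1) (pO a).1 (pO a).2 + sh (eE (a + 1) (pO a).1 (pO a).2)) := by
  decide +kernel

theorem dC2 : ∀ a : ZMod 8, Good (eE a (pO a).1 (pO a).2 + sh (eE a (pO a).1 (pO a).2)) ∧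
    eE (a - 2) (pO a).1 (pO a).2 + sh (eE (a - 2) (pO a).1 (pO a).2) =
      (eE a (pO a).1 (pO a).2 + sh (eE a (pO a).1 (pO a).2)) +
        sh (eE a (pO a).1 (pO a).2 + sh (eE a (pO a).1 (pO a).2)) ∧
    eO (a - 1) (pO a).1 (pO a).2 = sh (eE a (pO a).1 (pO a).2 + sh (eE a (pO a).1 (pO a).2)) := by
  decide +kernel

theorem mem_YZ_even {b : ℤ} {y : G} (hy : y ∈ YZ S (2 * b)) : ∃ u, S.e (b : ZMod 8) 0 u = y := by
  rw [YZ_even] at hy
  exact hy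

theorem mem_YZ_odd {b : ℤ} {y : G} (hy : y ∈ YZ S (2 * b + 1)) : ∃ t, S.o (b : ZMod 8) t = y := by
  rw [YZ_odd] at hy
  exact (S.mem_XZ_odd b y).1 hy

/-- **The torus triples.** -/
theorem kf [Finite F] (hF : ∃ x : F, x ≠ 0 ∧ x ≠ 1) (c : ℤ) {e : ℤ} (he : e = 1 ∨ e = -1) :
    Kf (fun k => S.XZ (2 * c + e * k)) (fun k => YZ S (2 * c + e * k)) (fun k => S.Tk (2 * c + e * k)) where
  fA := by
    show ∃ h1 ∈ S.Tk (2 * c + e * 2), ∃ h2 ∈ S.Tk (2 * c + e * 2), ∃ h3 ∈ S.Tk (2 * c + e * 2),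
      (∀ y ∈ YZ S (2 * c + e * (-1)), A3 h1 h2 h3 y = 1) ∧ (∀ y ∈ YZ S (2 * c + e * (-2)), A3 h1 h2 h3 y = 1) ∧
      ∀ y ∈ YZ S (2 * c + e * 1), A3 h1 h2 h3 y = 1 → y = 1
    rcases he with rfl | rfl
    · obtain ⟨a, rfl⟩ : ∃ a, c = a - 1 := ⟨c + 1, by ring⟩
      obtain ⟨hv, e1, e2⟩ := dA1 (a : ZMod 8)
      obtain ⟨w1, w2, w3, f1, -, f3, f4, -⟩ := triple1 S hF (pE (a : ZMod 8)) hv
      rw [show 2 * (a - 1) + 1 * 2 = 2 * a by ring, show 2 * (a - 1) + 1 * (-1) = 2 * (a - 2) + 1 by ring,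
        show 2 * (a - 1) + 1 * (-2) = 2 * (a - 2) by ring, show 2 * (a - 1) + 1 * 1 = 2 * (a - 1) + 1 by ring]
      refine ⟨_, hw_pE_mem S a w1, _, hw_pE_mem S a w2, _, hw_pE_mem S a w3, ?_, ?_, ?_⟩
      · intro y hy
        obtain ⟨t, rfl⟩ := mem_YZ_odd S hy
        push_cast
        exact f1 _ e1 t
      · intro y hy
        obtain ⟨u, rfl⟩ := mem_YZ_even S hy
        push_cast
        exact f3 _ (Or.inr e2) u
      · intro y hy
        obtain ⟨t, rfl⟩ := mem_YZ_odd S hy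
        push_cast
        exact f4 _ (Or.inl rfl) t
    · obtain ⟨a, rfl⟩ : ∃ a, c = a + 1 := ⟨c - 1, by ring⟩
      obtain ⟨hv, e1, e2⟩ := dA2 (a : ZMod 8)
      obtain ⟨w1, w2, w3, f1, -, f3, f4, -⟩ := triple1 S hF (pE (a : ZMod 8)) hv
      rw [show 2 * (a + 1) + -1 * 2 = 2 * a by ring, show 2 * (a + 1) + -1 * (-1) = 2 * (a + 1) + 1 by ring,
        show 2 * (a + 1) + -1 * (-2) = 2 * (a + 2) by ring, show 2 * (a + 1) + -1 * 1 = 2 * a + 1 by ring]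
      refine ⟨_, hw_pE_mem S a w1, _, hw_pE_mem S a w2, _, hw_pE_mem S a w3, ?_, ?_, ?_⟩
      · intro y hy
        obtain ⟨t, rfl⟩ := mem_YZ_odd S hy
        push_cast
        exact f1 _ e1 t
      · intro y hy
        obtain ⟨u, rfl⟩ := mem_YZ_even S hy
        push_cast
        exact f3 _ (Or.inr e2) u
      · intro y hy
        obtain ⟨t, rfl⟩ := mem_YZ_odd S hy
        exact f4 _ (Or.inl rfl) t
  fB := by
    show ∃ h1 ∈ S.Tk (2 * c + e * (-2)), ∃ h2 ∈ S.Tk (2 * c + e * (-2)), ∃ h3 ∈ S.Tk (2 * c + e * (-2)),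
      (∀ x ∈ S.XZ (2 * c + e * 2), A3 h1 h2 h3 x ∈ YZ S (2 * c + e * 2)) ∧
      ∀ y ∈ YZ S (2 * c + e * 0), A3 h1 h2 h3 y = 1 → y = 1
    have hg : ∀ v ∈ ([(1, 0), (-1, 0)] : List (ℤ × ℤ)), Good v := by decide
    rcases he with rfl | rfl
    · obtain ⟨a, rfl⟩ : ∃ a, c = a + 1 := ⟨c - 1, by ring⟩
      obtain ⟨v, hv, e1, e2⟩ := dB1 (a : ZMod 8)
      obtain ⟨w1, w2, w3, f1, f2⟩ := triple2 S hF (pE (a : ZMod 8)) (hg v hv)
      rw [show 2 * (a + 1) + 1 * (-2) = 2 * a by ring, show 2 * (a + 1) + 1 * 2 = 2 * (a + 2) by ring,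
        show 2 * (a + 1) + 1 * 0 = 2 * (a + 1) by ring]
      refine ⟨_, hw_pE_mem S a w1, _, hw_pE_mem S a w2, _, hw_pE_mem S a w3, ?_, ?_⟩
      · intro x hx
        obtain ⟨p, u, rfl⟩ := (S.mem_XZ_even (a + 2) x).1 hx
        rw [YZ_even]
        push_cast
        obtain ⟨u', hu'⟩ := f1 _ e1 p u
        exact ⟨u', hu'.symm⟩
      · intro y hy
        obtain ⟨u, rfl⟩ := mem_YZ_even S hy
        push_cast
        exact f2 _ e2 u
    · obtain ⟨a, rfl⟩ : ∃ a, c = a - 1 := ⟨c + 1, by ring⟩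
      obtain ⟨v, hv, e1, e2⟩ := dB2 (a : ZMod 8)
      obtain ⟨w1, w2, w3, f1, f2⟩ := triple2 S hF (pE (a : ZMod 8)) (hg v hv)
      rw [show 2 * (a - 1) + -1 * (-2) = 2 * a by ring, show 2 * (a - 1) + -1 * 2 = 2 * (a - 2) by ring,
        show 2 * (a - 1) + -1 * 0 = 2 * (a - 1) by ring]
      refine ⟨_, hw_pE_mem S a w1, _, hw_pE_mem S a w2, _, hw_pE_mem S a w3, ?_, ?_⟩
      · intro x hx
        obtain ⟨p, u, rfl⟩ := (S.mem_XZ_even (a - 2) x).1 hx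
        rw [YZ_even]
        push_cast
        obtain ⟨u', hu'⟩ := f1 _ e1 p u
        exact ⟨u', hu'.symm⟩
      · intro y hy
        obtain ⟨u, rfl⟩ := mem_YZ_even S hy
        push_cast
        exact f2 _ e2 u
  fC := by
    show ∃ h1 ∈ S.Tk (2 * c + e * (-1)), ∃ h2 ∈ S.Tk (2 * c + e * (-1)), ∃ h3 ∈ S.Tk (2 * c + e * (-1)),
      (∀ y ∈ YZ S (2 * c + e * 4), A3 h1 h2 h3 y = 1) ∧
      (∀ y ∈ YZ S (2 * c + e * 0), A3 h1 h2 h3 y = 1 → y = 1) ∧ ∀ y ∈ YZ S (2 * c + e * 1), A3 h1 h2 h3 y = 1 → y = 1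
    rcases he with rfl | rfl
    · obtain ⟨a, rfl⟩ : ∃ a, c = a + 1 := ⟨c - 1, by ring⟩
      obtain ⟨hv, e1, e2⟩ := dC1 (a : ZMod 8)
      obtain ⟨w1, w2, w3, -, -, f3, f4, f5⟩ := triple1 S hF (pO (a : ZMod 8)) hv
      rw [show 2 * (a + 1) + 1 * (-1) = 2 * a + 1 by ring, show 2 * (a + 1) + 1 * 4 = 2 * (a + 3) by ring,
        show 2 * (a + 1) + 1 * 0 = 2 * (a + 1) by ring, show 2 * (a + 1) + 1 * 1 = 2 * (a + 1) + 1 by ring]
      refine ⟨_, hw_pO_mem S a w1, _, hw_pO_mem S a w2, _, hw_pO_mem S a w3, ?_, ?_, ?_⟩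
      · intro y hy
        obtain ⟨u, rfl⟩ := mem_YZ_even S hy
        push_cast
        exact f3 _ (Or.inl e1) u
      · intro y hy
        obtain ⟨u, rfl⟩ := mem_YZ_even S hy
        push_cast
        exact f5 _ rfl u
      · intro y hy
        obtain ⟨t, rfl⟩ := mem_YZ_odd S hy
        push_cast
        exact f4 _ (Or.inr e2) t
    · obtain ⟨a, ha⟩ : ∃ a, a = c := ⟨c, rfl⟩
      rw [← ha]
      obtain ⟨hv, e1, e2⟩ := dC2 (a : ZMod 8)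
      obtain ⟨w1, w2, w3, -, -, f3, f4, f5⟩ := triple1 S hF (pO (a : ZMod 8)) hv
      rw [show 2 * a + -1 * (-1) = 2 * a + 1 by ring, show 2 * a + -1 * 4 = 2 * (a - 2) by ring,
        show 2 * a + -1 * 0 = 2 * a by ring, show 2 * a + -1 * 1 = 2 * (a - 1) + 1 by ring]
      refine ⟨_, hw_pO_mem S a w1, _, hw_pO_mem S a w2, _, hw_pO_mem S a w3, ?_, ?_, ?_⟩
      · intro y hy
        obtain ⟨u, rfl⟩ := mem_YZ_even S hy
        push_cast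
        exact f3 _ (Or.inl e1) u
      · intro y hy
        obtain ⟨u, rfl⟩ := mem_YZ_even S hy
        exact f5 _ rfl u
      · intro y hy
        obtain ⟨t, rfl⟩ := mem_YZ_odd S hy
        push_cast
        exact f4 _ (Or.inr e2) t

end Cfsg.Agent.OddHalf.D7TwF4.Syl.KfInst

namespace Cfsg.Agent.OddHalf.D7TwF4.Syl.RHat

/-- the image of `Kf` -/
theorem Kf.map {G G' : Type*} [Group G] [Group G'] {X Y T : ℤ → Subgroup G} (K : Kf X Y T) {f : G →* G'}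
    (hf : Function.Injective f) : Kf (fun k => (X k).map f) (fun k => (Y k).map f) (fun k => (T k).map f) := by
  have hA : ∀ h1 h2 h3 x, A3 (f h1) (f h2) (f h3) (f x) = f (A3 h1 h2 h3 x) := by
    intro h1 h2 h3 x
    unfold A3
    simp only [map_mul, map_inv]
  constructor
  · obtain ⟨h1, t1, h2, t2, h3, t3, a1, a2, a3⟩ := K.fA
    refine ⟨f h1, ⟨h1, t1, rfl⟩, f h2, ⟨h2, t2, rfl⟩, f h3, ⟨h3, t3, rfl⟩, ?_, ?_, ?_⟩
    · rintro _ ⟨y, hy, rfl⟩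
      rw [hA, a1 y hy, map_one]
    · rintro _ ⟨y, hy, rfl⟩
      rw [hA, a2 y hy, map_one]
    · rintro _ ⟨y, hy, rfl⟩ h
      rw [hA] at h
      rw [a3 y hy (hf (h.trans (map_one f).symm)), map_one]
  · obtain ⟨h1, t1, h2, t2, h3, t3, a1, a2⟩ := K.fB
    refine ⟨f h1, ⟨h1, t1, rfl⟩, f h2, ⟨h2, t2, rfl⟩, f h3, ⟨h3, t3, rfl⟩, ?_, ?_⟩
    · rintro _ ⟨y, hy, rfl⟩
      rw [hA]
      exact ⟨_, a1 y hy, rfl⟩
    · rintro _ ⟨y, hy, rfl⟩ h
      rw [hA] at h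
      rw [a2 y hy (hf (h.trans (map_one f).symm)), map_one]
  · obtain ⟨h1, t1, h2, t2, h3, t3, a1, a2, a3⟩ := K.fC
    refine ⟨f h1, ⟨h1, t1, rfl⟩, f h2, ⟨h2, t2, rfl⟩, f h3, ⟨h3, t3, rfl⟩, ?_, ?_, ?_⟩
    · rintro _ ⟨y, hy, rfl⟩
      rw [hA, a1 y hy, map_one]
    · rintro _ ⟨y, hy, rfl⟩ h
      rw [hA] at h
      rw [a2 y hy (hf (h.trans (map_one f).symm)), map_one]
    · rintro _ ⟨y, hy, rfl⟩ h
      rw [hA] at h
      rw [a3 y hy (hf (h.trans (map_one f).symm)), map_one]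

end Cfsg.Agent.OddHalf.D7TwF4.Syl.RHat
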