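import Cfsg.Agent.OddHalf.D7TwF4.Syl.RTwo
import Cfsg.Agent.OddHalf.D7TwF4.Growth.Two

/-!
# Growth for `²F₄(q)` with Sylow subgroups: `U*` (helper224; text bb ODD 14326)

`N^ ≤ C_G(E)`, `𝒢₂ = {g ∈ C_G(F) | ⁅g, W₁⁆ ≤ F}`, `D₃ = C_G(F) W₋₃` (`E = W₀ W₁ W₂`, `F = W₀ W₂`): the `t`-invariant Sylow
2-subgroups are `t`-free, with fixed points `NK`, `X₋₂ ⋯ X₄`, `U = X₋₃ ⋯ X₄`.
-/

set_option autoImplicit false
set_option linter.unusedVariables false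
set_option linter.unusedSectionVars false

namespace Cfsg.Agent.OddHalf.D7TwF4.Syl.Main

open Cfsg.Agent.OddHalf.D7TwF4.Growth.Defs Cfsg.Agent.OddHalf.D7TwF4.Growth.Tools
open Cfsg.Agent.OddHalf.D7TwF4.Growth.Frame (F F_F F_id gen)
open Cfsg.Agent.OddHalf.D7TwF4.Syl.Inp Cfsg.Agent.OddHalf.D7TwF4.Growth.Two Cfsg.Agent.OddHalf.D7TwF4.Syl.Free
open Cfsg.Agent.OddHalf.D7TwF4.Syl.NHat Cfsg.Agent.OddHalf.D7TwF4.Syl.RHat Cfsg.Agent.OddHalf.D7TwF4.Syl.RTwo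

universe u

variable {G : Type u} [Group G]

/-! ### general stage -/

theorem sec_of_sq {N E : Subgroup G} (hE : E ≤ N) (hn : Nz N E) (hsq : ∀ n ∈ N, n * n ∈ E) : Sec N E where
  le := hE
  nz := hn
  sq := hsq
  cl := by
    intro a ha b hb
    have e2 : a * b * a⁻¹ * b⁻¹ = (a * b) * (a * b) * (b⁻¹ * (a⁻¹ * a⁻¹) * b * (b⁻¹ * b⁻¹)) := by group
    rw [e2]
    refine mul_mem (hsq _ (mul_mem ha hb)) (mul_mem ?_ (hsq _ (inv_mem hb)))
    exact hn.inv hb (hsq _ (inv_mem ha))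

/-- Sylow subgroup of a normal subgroup -/
theorem maxTwo_inf [Finite G] {D C S : Subgroup G} (hS : MaxTwo D S) (hC : C ≤ D) (hn : Nz D C) : MaxTwo C (S ⊓ C) where
  le := inf_le_right
  two := hS.two.to_le inf_le_left
  max := by
    intro Q hQC hQ hSQ
    obtain ⟨d, hd, hdQ⟩ := hS.conj_le (hQC.trans hC) hQ
    have hS2 : ∀ x ∈ Q, d * x * d⁻¹ ∈ S ⊓ C := fun x hx =>
      Subgroup.mem_inf.2 ⟨hdQ x hx, hn d hd x (hQC hx)⟩
    let f : Q → (S ⊓ C : Subgroup G) := fun x => ⟨d * x * d⁻¹, hS2 x x.2⟩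
    have hf : Function.Injective f := by
      intro a b hab
      have e : d * (a : G) * d⁻¹ = d * b * d⁻¹ := congrArg Subtype.val hab
      exact Subtype.ext (mul_left_cancel (mul_right_cancel e))
    exact (Subgroup.eq_of_le_of_card_ge hSQ (Nat.card_le_card_of_injective f hf)).ge

/-- `D = C S` if `D / C` is a 2-group -/
theorem exists_mul_mem [Finite G] {D C S : Subgroup G} (hS : MaxTwo D S) (hC : C ≤ D) (hn : Nz D C)
    (hsq : ∀ d ∈ D, d * d ∈ C) : ∀ d ∈ D, ∃ c ∈ C, c * d ∈ S := by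
  obtain ⟨P, hP⟩ := hS.isSylow
  haveI hnorm : (C.subgroupOf D).Normal := ⟨fun a ha g => by
    rw [Subgroup.mem_subgroupOf] at ha ⊢
    exact hn g g.2 _ ha⟩
  have h2 : IsPGroup 2 (D ⧸ C.subgroupOf D) := by
    intro x
    obtain ⟨y, rfl⟩ := QuotientGroup.mk_surjective x
    refine ⟨1, ?_⟩
    rw [pow_one, pow_two]
    show ((y * y : D) : D ⧸ C.subgroupOf D) = 1
    rw [QuotientGroup.eq_one_iff, Subgroup.mem_subgroupOf]
    exact hsq y y.2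
  obtain ⟨k, hk⟩ := IsPGroup.iff_card.1 h2
  have hI : (C.subgroupOf D).index = 2 ^ k := hk
  have htop : (P : Subgroup D) ⊔ C.subgroupOf D = ⊤ := by
    rw [← Subgroup.index_eq_one]
    have d1 : ((P : Subgroup D) ⊔ C.subgroupOf D).index ∣ 2 ^ k := by
      rw [← hI]; exact Subgroup.index_dvd_of_le le_sup_right
    have d2 : ((P : Subgroup D) ⊔ C.subgroupOf D).index ∣ (P : Subgroup D).index := Subgroup.index_dvd_of_le le_sup_left
    have h3 : ¬ 2 ∣ (P : Subgroup D).index := P.not_dvd_index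
    obtain ⟨j, _, hj⟩ := (Nat.dvd_prime_pow Nat.prime_two).1 d1
    rcases Nat.eq_zero_or_pos j with h0 | h0
    · rw [hj, h0, pow_zero]
    · exfalso
      apply h3
      refine dvd_trans ?_ d2
      rw [hj]; exact dvd_pow_self 2 (by omega)
  intro d hd
  have h4 : (⟨d, hd⟩ : D) ∈ (P : Subgroup D) ⊔ C.subgroupOf D := by rw [htop]; exact Subgroup.mem_top _
  rw [sup_comm, Subgroup.mem_sup_of_normal_left] at h4
  obtain ⟨c, hc, s, hs, hcs⟩ := h4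
  have hcs' : (c : G) * s = d := congrArg Subtype.val hcs
  refine ⟨(c : G)⁻¹, inv_mem hc, ?_⟩
  rw [← hcs', inv_mul_cancel_left, ← hP]
  exact ⟨s, hs, rfl⟩

/-- **The stage**: from `C` to `D`, `D / C` elementary abelian. -/
theorem stage [Finite G] {t : G} (t2 : t * t = 1) {τ : G →* G} (hτ : ∀ x, τ x = t * x * t⁻¹) {D C A K L : Subgroup G}
    (hD : ∀ d ∈ D, τ d ∈ D) (htD : t ∉ D) (hC : C ≤ D) (hCτ : ∀ d ∈ C, τ d ∈ C) (hn : Nz D C)
    (hsq : ∀ d ∈ D, d * d ∈ C) (hA : MaxTwo C A) (hAd : Dbl τ A K) (hfC : ∀ c ∈ C, τ c = c → c ∈ K)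
    (hL2 : IsPGroup 2 L) (hKL : K ≤ L) (hLD : L ≤ D) (hLf : ∀ x ∈ L, τ x = x) (hfD : ∀ d ∈ D, τ d = d → d ∈ L)
    (hs : ∀ k ∈ L, ∃ r ∈ D, k⁻¹ * (r⁻¹ * τ r) ∈ C) : ∃ B, MaxTwo D B ∧ Dbl τ B L := by
  have ti : t⁻¹ = t := inv_eq_of_mul_eq_one_left t2
  have tt : ∀ x, τ (τ x) = x := by
    intro x
    rw [hτ, hτ, ti]
    calc t * (t * x * t) * t = (t * t) * x * (t * t) := by group
      _ = x := by rw [t2]; group
  have hD' : ∀ d ∈ D, t * d * t⁻¹ ∈ D := fun d hd => by rw [← hτ]; exact hD d hd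
  have hC' : ∀ d ∈ C, t * d * t⁻¹ ∈ C := fun d hd => by rw [← hτ]; exact hCτ d hd
  obtain ⟨B, hLB, hBi, hB⟩ := exists_inv t2 hD' (A := L) (fun a ha => by rw [← hτ, hLf a ha]; exact ha) hLD hL2
  have hBC := maxTwo_inf hB hC hn
  have hBτ : ∀ b ∈ B, τ b ∈ B := fun b hb => by rw [hτ]; exact hBi b hb
  have hNi : ∀ a ∈ B ⊓ C, t * a * t⁻¹ ∈ B ⊓ C := fun a ha =>
    Subgroup.mem_inf.2 ⟨hBi a ha.1, hC' a ha.2⟩
  have hfree := free_of_free t2 hτ hC' (fun ht => htD (hC ht)) hA hBC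
    (fun a ha => by rw [← hτ]; exact hAd.inv a ha) hNi hAd.free
  have hdN : Dbl τ (B ⊓ C) K :=
    { le := le_inf (hKL.trans hLB) (hAd.le.trans hA.le)
      inv := fun r hr => by rw [hτ]; exact hNi r hr
      fixK := hAd.fixK
      fix := fun r hr hf => hfC r hr.2 hf
      free := hfree }
  refine ⟨B, hB, dbl_ext tt hdN inf_le_left hBτ ?_ ?_ hLB hLf (fun b hb hf => hfD b (hB.le hb) hf) ?_⟩
  · intro b hb r hr
    exact Subgroup.mem_inf.2 ⟨mul_mem (mul_mem hb hr.1) (inv_mem hb), hn b (hB.le hb) r hr.2⟩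
  · intro b hb
    exact Subgroup.mem_inf.2 ⟨mul_mem hb hb, hsq b (hB.le hb)⟩
  · intro k hk
    obtain ⟨r0, hr0, h1⟩ := hs k hk
    obtain ⟨g, hg, hgr⟩ := exists_mul_mem hB hC hn hsq r0 hr0
    refine ⟨g * r0, hgr, Subgroup.mem_inf.2 ⟨mul_mem (inv_mem (hLB hk)) (mul_mem (inv_mem hgr) (hBτ _ hgr)), ?_⟩⟩
    have e : k⁻¹ * ((g * r0)⁻¹ * τ (g * r0)) = ((r0 * k)⁻¹ * (g⁻¹ * τ g) * (r0 * k)⁻¹⁻¹) * (k⁻¹ * (r0⁻¹ * τ r0)) := by
      rw [map_mul]; group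
    rw [e]
    exact mul_mem (hn _ (inv_mem (mul_mem hr0 (hLD hk))) _ (mul_mem (inv_mem hg) (hCτ g hg))) h1

/-! ### `C_G(F)`, `𝒢₂`, `D₃` -/

section

variable {τ : G →* G} {X Y W T : ℤ → Subgroup G}

/-- `C_G(W₀ W₂)` -/
def CF (W : ℤ → Subgroup G) : Subgroup G := Subgroup.centralizer ((W 0 ⊔ W 2 : Subgroup G) : Set G)

theorem mem_CF' {g : G} : g ∈ CF W ↔ ∀ e ∈ W 0 ⊔ W 2, g * e = e * g := by
  unfold CF
  rw [Subgroup.mem_centralizer_iff]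
  exact ⟨fun h e he => (h e he).symm, fun h e he => (h e he).symm⟩

theorem mem_CF {g : G} : g ∈ CF W ↔ (∀ w ∈ W 0, g * w = w * g) ∧ ∀ w ∈ W 2, g * w = w * g := by
  rw [mem_CF']
  constructor
  · intro h
    exact ⟨fun w hw => h w (Subgroup.mem_sup_left hw), fun w hw => h w (Subgroup.mem_sup_right hw)⟩
  · rintro ⟨h1, h2⟩ e he
    have h3 : Cm (Subgroup.zpowers g) (W 0) := by
      rintro _ ⟨n, rfl⟩ w hw
      exact (Commute.zpow_left (h1 w hw) n).eq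
    have h4 : Cm (Subgroup.zpowers g) (W 2) := by
      rintro _ ⟨n, rfl⟩ w hw
      exact (Commute.zpow_left (h2 w hw) n).eq
    exact (h3.sup' h4) g (Subgroup.mem_zpowers g) e he

/-- `𝒢₂` -/
def G2 (W : ℤ → Subgroup G) : Subgroup G where
  carrier := {g | g ∈ CF W ∧ ∀ w ∈ W 1, g * w * g⁻¹ * w⁻¹ ∈ W 0 ⊔ W 2}
  one_mem' := ⟨one_mem _, fun w hw => by
    rw [one_mul, inv_one, mul_one, mul_inv_cancel]; exact one_mem _⟩
  mul_mem' := by
    rintro a b ⟨ha, ha'⟩ ⟨hb, hb'⟩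
    refine ⟨mul_mem ha hb, fun w hw => ?_⟩
    have e : (a * b) * w * (a * b)⁻¹ * w⁻¹ = (a * (b * w * b⁻¹ * w⁻¹) * a⁻¹) * (a * w * a⁻¹ * w⁻¹) := by group
    rw [e, mem_CF'.1 ha _ (hb' w hw), mul_inv_cancel_right]
    exact mul_mem (hb' w hw) (ha' w hw)
  inv_mem' := by
    rintro a ⟨ha, ha'⟩
    refine ⟨inv_mem ha, fun w hw => ?_⟩
    have e : a⁻¹ * w * a⁻¹⁻¹ * w⁻¹ = a⁻¹ * (a * w * a⁻¹ * w⁻¹)⁻¹ * a⁻¹⁻¹ := by group
    rw [e, mem_CF'.1 (inv_mem ha) _ (inv_mem (ha' w hw)), mul_inv_cancel_right]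
    exact inv_mem (ha' w hw)

theorem CE_le_G2 : CE W ≤ G2 W := by
  intro g hg
  have h1 := mem_CE.1 hg
  refine ⟨mem_CF.2 ⟨fun w hw => h1 w (Subgroup.mem_sup_left (Subgroup.mem_sup_left hw)),
    fun w hw => h1 w (Subgroup.mem_sup_right hw)⟩, fun w hw => ?_⟩
  rw [h1 w (Subgroup.mem_sup_left (Subgroup.mem_sup_right hw)), mul_inv_cancel_right, mul_inv_cancel]
  exact one_mem _

theorem G2_le_CF : G2 W ≤ CF W := fun g hg => hg.1

/-- membership in `C_G(E)` for elements of `𝒢₂` -/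
theorem mem_CE_of {g : G} (hg : g ∈ CF W) (h1 : ∀ w ∈ W 1, g * w = w * g) : g ∈ CE W := by
  rw [mem_CE]
  have h0 := mem_CF.1 hg
  have a0 : Cm (Subgroup.zpowers g) (W 0) := by
    rintro _ ⟨n, rfl⟩ w hw
    exact (Commute.zpow_left (h0.1 w hw) n).eq
  have a1 : Cm (Subgroup.zpowers g) (W 1) := by
    rintro _ ⟨n, rfl⟩ w hw
    exact (Commute.zpow_left (h1 w hw) n).eq
  have a2 : Cm (Subgroup.zpowers g) (W 2) := by
    rintro _ ⟨n, rfl⟩ w hw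
    exact (Commute.zpow_left (h0.2 w hw) n).eq
  exact fun e he => ((a0.sup' a1).sup' a2) g (Subgroup.mem_zpowers g) e he

end

section

variable {τ : G →* G} {X Y W T : ℤ → Subgroup G} (h : InpS τ X Y W T)

include h

theorem sq_F : ∀ e ∈ W 0 ⊔ W 2, e * e = 1 := fun e he => sq_E h e
  ((sup_le (le_sup_left.trans le_sup_left) le_sup_right : W 0 ⊔ W 2 ≤ EK W) he)

theorem cm_F1 : Cm (W 0 ⊔ W 2) (W 1) := (base h).w01.sup (w12 h).symm

theorem nz_G2 : Nz (G2 W) (CE W) := by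
  intro g hg c hc
  -- `g` normalises `E`
  have hgE : ∀ e ∈ EK W, g⁻¹ * e * g ∈ EK W := by
    have hle : EK W ≤ (EK W).comap (MulAut.conj g⁻¹).toMonoidHom := by
      have hF : W 0 ⊔ W 2 ≤ EK W := sup_le (le_sup_left.trans le_sup_left) le_sup_right
      have hg' := (G2 W).inv_mem hg
      have key : ∀ w ∈ W 0 ⊔ W 2, g⁻¹ * w * g⁻¹⁻¹ ∈ EK W := fun w hw => by
        rw [mem_CF'.1 hg'.1 w hw, mul_inv_cancel_right]; exact hF hw
      refine sup_le (sup_le (fun w hw => key w (Subgroup.mem_sup_left hw)) (fun w hw => ?_))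
        (fun w hw => key w (Subgroup.mem_sup_right hw))
      show g⁻¹ * w * g⁻¹⁻¹ ∈ EK W
      have e : g⁻¹ * w * g⁻¹⁻¹ = (g⁻¹ * w * g⁻¹⁻¹ * w⁻¹) * w := by group
      rw [e]
      exact mul_mem (hF (hg'.2 w hw)) (Subgroup.mem_sup_left (Subgroup.mem_sup_right hw))
    intro e he
    have := hle he
    have e1 : (MulAut.conj g⁻¹).toMonoidHom e = g⁻¹ * e * g := by
      show g⁻¹ * e * g⁻¹⁻¹ = _
      rw [inv_inv]
    rw [Subgroup.mem_comap, e1] at this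
    exact this
  rw [mem_CE] at hc ⊢
  intro e he
  have h1 := hc _ (hgE e he)
  calc g * c * g⁻¹ * e = g * (c * (g⁻¹ * e * g)) * g⁻¹ := by group
    _ = g * ((g⁻¹ * e * g) * c) * g⁻¹ := by rw [h1]
    _ = e * (g * c * g⁻¹) := by group

theorem sq_G2 : ∀ g ∈ G2 W, g * g ∈ CE W := by
  intro g hg
  apply mem_CE_of (mul_mem hg.1 hg.1)
  intro w hw
  have h1 := hg.2 w hw
  obtain ⟨c, hc⟩ : ∃ c, c = g * w * g⁻¹ * w⁻¹ := ⟨_, rfl⟩
  rw [← hc] at h1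
  have e1 : g * w * g⁻¹ = c * w := by rw [hc]; group
  have e2 : g * c = c * g := mem_CF'.1 hg.1 c h1
  have e3 : g * g * w * (g * g)⁻¹ = w := by
    calc g * g * w * (g * g)⁻¹ = g * (g * w * g⁻¹) * g⁻¹ := by group
      _ = (g * c) * w * g⁻¹ := by rw [e1]; group
      _ = c * (g * w * g⁻¹) := by rw [e2]; group
      _ = (c * c) * w := by rw [e1]; group
      _ = w := by rw [sq_F h c h1, one_mul]
  calc g * g * w = (g * g * w * (g * g)⁻¹) * (g * g) := by group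
    _ = w * (g * g) := by rw [e3]

theorem tau_F : ∀ w ∈ W 0 ⊔ W 2, τ w ∈ W 0 ⊔ W 2 := by
  have : W 0 ⊔ W 2 ≤ (W 0 ⊔ W 2).comap τ := sup_le (fun w hw => Subgroup.mem_sup_left (h.Wt 0 w hw))
    (fun w hw => Subgroup.mem_sup_right (h.Wt 2 w hw))
  exact fun w hw => this hw

theorem tau_CF : ∀ g ∈ CF W, τ g ∈ CF W := by
  intro g hg
  rw [mem_CF'] at hg ⊢
  intro e he
  have h1 := hg _ (tau_F h e he)
  have h2 := congrArg τ h1
  rw [map_mul, map_mul, h.tt] at h2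
  exact h2

theorem tau_G2 : ∀ g ∈ G2 W, τ g ∈ G2 W := by
  intro g hg
  refine ⟨tau_CF h g hg.1, fun w hw => ?_⟩
  have h1 := tau_F h _ (hg.2 _ (h.Wt 1 w hw))
  rw [map_mul, map_mul, map_mul, map_inv, map_inv, h.tt] at h1
  exact h1

theorem sh_EK_le : EK (F 1 1 W) ≤ CE W := by
  have b1 := base (sh h 1)
  have c3 : Cm (W 3) (EK W) := by
    have := cm_m1 (ref h)
    rw [EK_ref h] at this
    exact this
  have c4 : Cm (W 4) (EK W) := cm_4 h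
  have c2 : Cm (W 2) (EK W) := (cm_E h).mono le_sup_right le_rfl
  intro g hg
  exact mem_CE.2 fun e he => ((c2.sup c3).sup c4) g hg e he

/-- the double of `X₄` in `𝒢₂` -/
theorem u4 [Finite G] (k : Kf (F 1 1 X) (F 1 1 Y) (F 1 1 T)) : ∀ x ∈ X 4, ∃ u ∈ G2 W, x⁻¹ * (u⁻¹ * τ u) ∈ CE W := by
  intro x hx
  obtain ⟨u, hu, h1, h2, h3⟩ := exists_dbl (sh h 1) k (x := x) hx
  have h2' : ∀ w ∈ W 1, w * u * w⁻¹ * u⁻¹ ∈ W 2 := h2
  have h3' : ∀ w ∈ W 0, w * u = u * w := h3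
  have h4 : ∀ w ∈ W 2, u * w = w * u := fun w hw =>
    cmN (sh h 1) u hu w (Subgroup.mem_sup_left (Subgroup.mem_sup_left (show w ∈ F 1 1 W 0 from hw)))
  refine ⟨u, ⟨mem_CF.2 ⟨fun w hw => (h3' w hw).symm, h4⟩, fun w hw => ?_⟩, sh_EK_le h h1⟩
  have h5 := inv_mem (h2' w hw)
  have e : (w * u * w⁻¹ * u⁻¹)⁻¹ = u * w * u⁻¹ * w⁻¹ := by group
  rw [e] at h5
  exact Subgroup.mem_sup_right h5

theorem G2_ref : G2 (F 1 (-1) W) = G2 W := by
  have e1 : F 1 (-1) W 0 ⊔ F 1 (-1) W 2 = W 0 ⊔ W 2 := by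
    show W 2 ⊔ W 0 = W 0 ⊔ W 2
    exact sup_comm _ _
  have e2 : CF (F 1 (-1) W) = CF W := by unfold CF; rw [e1]
  ext g
  constructor
  · rintro ⟨h1, h2⟩
    rw [e1] at h2
    exact ⟨e2 ▸ h1, h2⟩
  · rintro ⟨h1, h2⟩
    refine ⟨e2.symm ▸ h1, ?_⟩
    rw [e1]; exact h2

theorem CE_ref : CE (F 1 (-1) W) = CE W := by unfold CE; rw [EK_ref h]

/-- the double of `X₋₂` in `𝒢₂` -/
theorem um2 [Finite G] (k : Kf (F 1 1 (F 1 (-1) X)) (F 1 1 (F 1 (-1) Y)) (F 1 1 (F 1 (-1) T))) :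
    ∀ x ∈ X (-2), ∃ u ∈ G2 W, x⁻¹ * (u⁻¹ * τ u) ∈ CE W := by
  have := u4 (ref h) k
  rw [G2_ref h, CE_ref h] at this
  exact this

/-- `X₋₂ ⋯ X₄` -/
def O1 (X Y : ℤ → Subgroup G) : Subgroup G := QpK X Y ⊔ X 4

theorem X_fix (i : ℤ) : X i ≤ τ.eqLocus (MonoidHom.id G) := fun x hx => h.tX i x hx

theorem O1_fix : ∀ k ∈ O1 X Y, τ k = k := by
  have hNK : MK X Y ≤ τ.eqLocus (MonoidHom.id G) := fun k hk => NK_fix h k ((le_sup_left : MK X Y ≤ NK X Y) hk)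
  have : O1 X Y ≤ τ.eqLocus (MonoidHom.id G) := sup_le (sup_le hNK (X_fix h _)) (X_fix h _)
  exact fun k hk => this hk

omit h in
theorem MK_le_NK : MK X Y ≤ NK X Y := le_sup_left

theorem NK_le_O1 : NK X Y ≤ O1 X Y := by
  refine sup_le ?_ ((h.YX 4).trans le_sup_right)
  exact le_trans le_sup_left le_sup_left

theorem NK_le_CE : NK X Y ≤ CE W := fun k hk => mem_CE.2 (cmN h k (NK_le h hk))

/-- `X₄ ≤ 𝒢₂` -/
theorem X4_le : X 4 ≤ G2 W := by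
  have b1 := base (sh h 1)
  have c1 : Cl (W 1) (X 4) (W 2) := b1.c12
  have c0 : Cm (X 4) (W 0) := (base h).x4w0
  have b2 := base (rf h 2)
  have c2 : Cm (X 4) (W 2) := b2.x0w2
  intro x hx
  refine ⟨mem_CF.2 ⟨c0 x hx, c2 x hx⟩, fun w hw => ?_⟩
  exact Subgroup.mem_sup_right (c1.symm x hx w hw)

theorem Xm2_le : X (-2) ≤ G2 W := by
  have := X4_le (ref h)
  rw [G2_ref h] at this
  exact this

theorem O1_le : O1 X Y ≤ G2 W :=
  sup_le (sup_le ((MK_le_NK.trans (NK_le_CE h)).trans CE_le_G2) (Xm2_le h)) (X4_le h)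

theorem fix_CF : ∀ g ∈ CF W, τ g = g → g ∈ O1 X Y := by
  intro g hg hf
  have h1 := mem_CF.1 hg
  exact (base h).k7 g hf h1.1 (fun y hy => h1.2 y (h.YW 2 hy))

/-! ### `D₃` -/

theorem wm3_0 : Cm (W (-3)) (W 0) := by
  have b := base (sh h (-1))
  exact b.w12

theorem wm3_2 (k : Kf (F (-1) 1 X) (F (-1) 1 Y) (F (-1) 1 T)) : Cl (W (-3)) (W 2) (W 0) := w14 (sh h (-1)) k

theorem nz_Wm3 (k : Kf (F (-1) 1 X) (F (-1) 1 Y) (F (-1) 1 T)) : Nz (W (-3)) (W 0 ⊔ W 2) := by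
  intro w hw f hf
  have hle : W 0 ⊔ W 2 ≤ (W 0 ⊔ W 2).comap (MulAut.conj w).toMonoidHom := by
    refine sup_le (fun v hv => ?_) (fun v hv => ?_)
    · show w * v * w⁻¹ ∈ W 0 ⊔ W 2
      rw [wm3_0 h w hw v hv, mul_inv_cancel_right]
      exact Subgroup.mem_sup_left hv
    · show w * v * w⁻¹ ∈ W 0 ⊔ W 2
      have e : w * v * w⁻¹ = (w * v * w⁻¹ * v⁻¹) * v := by group
      rw [e]
      exact Subgroup.mul_mem_sup (wm3_2 h k w hw v hv) hv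
  exact hle hf

theorem nz_CF (k : Kf (F (-1) 1 X) (F (-1) 1 Y) (F (-1) 1 T)) : Nz (W (-3)) (CF W) := by
  intro w hw c hc
  rw [mem_CF'] at hc ⊢
  intro e he
  have h0 := nz_Wm3 h k w⁻¹ (inv_mem hw) e he
  rw [inv_inv] at h0
  have h1 := hc _ h0
  calc w * c * w⁻¹ * e = w * (c * (w⁻¹ * e * w)) * w⁻¹ := by group
    _ = w * ((w⁻¹ * e * w) * c) * w⁻¹ := by rw [h1]
    _ = e * (w * c * w⁻¹) := by group

/-- **The growth.** -/
theorem main [Finite G] {t : G} (t2 : t * t = 1) (hτ : ∀ x, τ x = t * x * t⁻¹) (hne : ∃ y ∈ Y 0, y ≠ 1)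
    (hk : ∀ c e : ℤ, e = 1 ∨ e = -1 → Kf (F c e X) (F c e Y) (F c e T)) (hU2 : IsPGroup 2 (U X Y)) :
    ∃ R : Subgroup G, Dbl τ R (U X Y) ∧ IsPGroup 2 R ∧ Cm R (W 0) := by
  -- `t` does not centralise `W₀`
  have ht0 : ∀ D : Subgroup G, (∀ g ∈ D, ∀ w ∈ W 0, g * w = w * g) → t ∉ D := by
    intro D hD ht
    obtain ⟨y, hy, hy1⟩ := hne
    obtain ⟨w, hw, hwy⟩ := h.Ws 0 y hy
    apply hy1
    rw [← hwy, hτ, hD t ht w hw, mul_inv_cancel_right, inv_mul_cancel]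
  have hO1U : O1 X Y ≤ U X Y := by
    refine sup_le ?_ le_sup_right
    have a : QpK X Y ≤ Q0 X Y := le_sup_left
    exact a.trans (le_sup_left.trans le_sup_left)
  have hCFt : t ∉ CF W := ht0 _ fun g hg w hw => (mem_CF.1 hg).1 w hw
  -- stage 1
  have k4 : Kf (F 1 1 X) (F 1 1 Y) (F 1 1 T) := hk 1 1 (Or.inl rfl)
  have km2 : Kf (F 1 1 (F 1 (-1) X)) (F 1 1 (F 1 (-1) Y)) (F 1 1 (F 1 (-1) T)) := by
    have := hk 0 (-1) (Or.inr rfl)
    rw [F_F, F_F, F_F]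
    exact this
  have hs1 : ∀ k ∈ O1 X Y, ∃ r ∈ G2 W, k⁻¹ * (r⁻¹ * τ r) ∈ CE W := by
    have hle : O1 X Y ≤ imBrk τ (sec_of_sq CE_le_G2 (nz_G2 h) (sq_G2 h)) (tau_G2 h) := by
      refine sup_le (sup_le ?_ ?_) ?_
      · intro x hx
        have hx' := NK_le_CE h (MK_le_NK hx)
        refine ⟨CE_le_G2 hx', 1, one_mem _, ?_⟩
        rw [map_one, inv_one, mul_one, mul_one]
        exact inv_mem hx'
      · intro x hx
        exact ⟨Xm2_le h hx, um2 h km2 x hx⟩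
      · intro x hx
        exact ⟨X4_le h hx, u4 h k4 x hx⟩
    exact fun k hk => (hle hk).2
  obtain ⟨O, hO, hOd⟩ := stage t2 hτ (tau_G2 h) (fun ht => hCFt (G2_le_CF ht)) CE_le_G2 (CE_tau h) (nz_G2 h) (sq_G2 h)
    (maxN h t2 hτ) (dblN h) (fun c hc hf => fixN h c (mem_CE.1 hc) hf) (hU2.to_le hO1U) (NK_le_O1 h) (O1_le h)
    (O1_fix h) (fun d hd hf => fix_CF h d (G2_le_CF hd) hf) hs1
  -- `O` is Sylow in `C_G(F)`
  have hOCF : MaxTwo (CF W) O := by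
    refine maxTwo_of_free t2 hτ (fun a ha => by rw [← hτ]; exact tau_CF h a ha) hOd (hO.le.trans G2_le_CF) hO.two ?_
    intro d hd hf
    exact hOd.le (fix_CF h d hd hf)
  -- stage 2
  have k1 := hk (-1) 1 (Or.inl rfl)
  have hnC := nz_CF h k1
  set D : Subgroup G := CF W ⊔ W (-3) with hD
  have hDτ : ∀ d ∈ D, τ d ∈ D := by
    have : D ≤ D.comap τ := sup_le (fun g hg => Subgroup.mem_sup_left (tau_CF h g hg))
      (fun g hg => Subgroup.mem_sup_right (h.Wt _ g hg))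
    exact fun d hd => this hd
  have hD0 : ∀ g ∈ D, ∀ w ∈ W 0, g * w = w * g := by
    have c1 : Cm (CF W) (W 0) := fun g hg w hw => (mem_CF.1 hg).1 w hw
    exact fun g hg w hw => (c1.sup (wm3_0 h)) g hg w hw
  have hnD : Nz D (CF W) := (nz_self (CF W)).sup hnC
  have hsqD : ∀ d ∈ D, d * d ∈ CF W := by
    intro d hd
    obtain ⟨g, hg, w, hw, rfl⟩ := mem_sup hnC hd
    have e : g * w * (g * w) = g * (w * g * w⁻¹) * (w * w) := by group
    rw [e, h.Wsq _ w hw, mul_one]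
    exact mul_mem hg (hnC w hw g hg)
  have hYm3 : Y (-3) = X (-3) := yo h (-2)
  have hUfix : ∀ x ∈ U X Y, τ x = x := by
    have hO : O1 X Y ≤ τ.eqLocus (MonoidHom.id G) := fun k hk => O1_fix h k hk
    have : U X Y ≤ τ.eqLocus (MonoidHom.id G) := by
      refine sup_le (sup_le (sup_le (le_sup_left.trans hO) ((h.YX _).trans (X_fix h _))) ((h.YX _).trans (X_fix h _)))
        (X_fix h _)
    exact fun k hk => this hk
  have hUD : U X Y ≤ D := by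
    have hO : O1 X Y ≤ D := ((O1_le h).trans G2_le_CF).trans le_sup_left
    have hX4 : X 4 ≤ D := le_sup_right.trans hO
    exact sup_le (sup_le (sup_le (le_sup_left.trans hO) ((h.YW _).trans le_sup_right)) ((h.YX 4).trans hX4)) hX4
  have hs2 : ∀ k ∈ U X Y, ∃ r ∈ D, k⁻¹ * (r⁻¹ * τ r) ∈ CF W := by
    have hle : U X Y ≤ imBrk τ (sec_of_sq (le_sup_left : CF W ≤ D) hnD hsqD) hDτ := by
      have triv : ∀ x ∈ CF W, x ∈ imBrk τ (sec_of_sq (le_sup_left : CF W ≤ D) hnD hsqD) hDτ := by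
        intro x hx
        refine ⟨Subgroup.mem_sup_left hx, 1, one_mem _, ?_⟩
        rw [map_one, inv_one, mul_one, mul_one]
        exact inv_mem hx
      have hO : O1 X Y ≤ CF W := (O1_le h).trans G2_le_CF
      have hX4 : X 4 ≤ CF W := le_sup_right.trans hO
      refine sup_le (sup_le (sup_le (fun x hx => triv x (hO (Subgroup.mem_sup_left hx))) ?_)
        (fun x hx => triv x (hX4 (h.YX 4 hx)))) (fun x hx => triv x (hX4 hx))
      intro y hy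
      obtain ⟨w, hw, hwy⟩ := h.Ws (-3) y hy
      refine ⟨Subgroup.mem_sup_right (h.YW _ hy), w, Subgroup.mem_sup_right hw, ?_⟩
      rw [hwy, inv_mul_cancel]; exact one_mem _
    exact fun k hk => (hle hk).2
  have hfD : ∀ d ∈ D, τ d = d → d ∈ U X Y := by
    intro d hd hf
    obtain ⟨g, hg, w, hw, rfl⟩ := mem_sup hnC hd
    rw [map_mul] at hf
    have e1 : g⁻¹ * τ g = w * (τ w)⁻¹ := by
      calc g⁻¹ * τ g = g⁻¹ * (τ g * τ w) * (τ w)⁻¹ := by group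
        _ = w * (τ w)⁻¹ := by rw [hf]; group
    have h5 : w⁻¹ * τ w ∈ Y (-3) := brk_mem h.tt (h.Wab _) (h.Wsq _) (h.Wt _) (h.Wf _) hw
    have e2 : w * (τ w)⁻¹ = w⁻¹ * τ w := by
      rw [inv_eq_of_mul_eq_one_left (h.Wsq _ w hw), inv_eq_of_mul_eq_one_left (h.Wsq _ _ (h.Wt _ w hw))]
    have h6 : w⁻¹ * τ w ∈ CF W := by
      rw [← e2, ← e1]
      exact mul_mem (inv_mem hg) (tau_CF h g hg)
    have h7 : w⁻¹ * τ w = 1 := (base h).kc _ (hYm3 ▸ h5) (fun y hy => (mem_CF.1 h6).2 y (h.YW 2 hy))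
    have h8 : τ w = w := (inv_mul_eq_one.1 h7).symm
    have h9 : τ g = g := by
      rw [h8] at hf
      exact mul_right_cancel hf
    have hw3 : w ∈ Y (-3) := h.Wf _ w hw h8
    have hY : Y (-3) ≤ U X Y := by
      have a : Y (-3) ≤ Q0 X Y := le_sup_right
      exact a.trans (le_sup_left.trans le_sup_left)
    exact mul_mem (hO1U (fix_CF h g hg h9)) (hY hw3)
  obtain ⟨R, hR, hRd⟩ := stage t2 hτ hDτ (ht0 D hD0) le_sup_left (tau_CF h) hnD hsqD hOCF hOd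
    (fun c hc hf => fix_CF h c hc hf) hU2 hO1U hUD hUfix hfD hs2
  exact ⟨R, hRd, hR.two, fun g hg w hw => hD0 g (hR.le hg) w hw⟩

end

end Cfsg.Agent.OddHalf.D7TwF4.Syl.Main
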