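import Cfsg.Agent.OddHalf.D7TwF4.Syl.Free
import Cfsg.Agent.OddHalf.D7TwF4.Syl.Inp

/-!
# Growth for `²F₄(q)` with Sylow subgroups: the group `N^` of order `q ^ 18` (helper224; text bb ODD 14326)

`E = W₀ W₁ W₂`, `N^ = ⟨W₄, W₋₂ ^ X₅⟩ E` is elementary abelian modulo `E`, centralises `E`, is `t`-free with fixed points
`NK`, and is a Sylow 2-subgroup of `C_G(E)`.
-/

set_option autoImplicit false
set_option linter.unusedVariables false
set_option linter.unusedSectionVars false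

namespace Cfsg.Agent.OddHalf.D7TwF4.Syl.NHat

open Cfsg.Agent.OddHalf.D7TwF4.Growth.Defs Cfsg.Agent.OddHalf.D7TwF4.Growth.Tools
open Cfsg.Agent.OddHalf.D7TwF4.Growth.Frame (F F_F F_id gen)
open Cfsg.Agent.OddHalf.D7TwF4.Syl.Inp Cfsg.Agent.OddHalf.D7TwF4.Syl.Free

variable {G : Type*} [Group G]

/-! ### general lemmas -/

/-- a section: `N / E` elementary abelian -/
structure Sec (N E : Subgroup G) : Prop where
  le : E ≤ N
  nz : Nz N E
  cl : Cl N N E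
  sq : ∀ n ∈ N, n * n ∈ E

theorem sec_closure {S : Set G} {E : Subgroup G} (hEab : Cm E E) (hEsq : ∀ e ∈ E, e * e = 1)
    (hS : ∀ a ∈ S, ∀ b ∈ S, a * b * a⁻¹ * b⁻¹ ∈ E) (hE : ∀ a ∈ S, ∀ e ∈ E, a * e = e * a) (hsq : ∀ a ∈ S, a * a ∈ E) :
    Sec (Subgroup.closure S ⊔ E) E ∧ Cm (Subgroup.closure S ⊔ E) E := by
  have hc1 : Cm (Subgroup.closure S) E := by
    intro a ha e he
    induction ha using Subgroup.closure_induction with
    | mem x hx => exact hE x hx e he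
    | one => simp
    | mul x y _ _ hx hy => exact comm_mul hx hy
    | inv x _ hx => exact comm_inv hx
  have hc : Cm (Subgroup.closure S ⊔ E) E := hc1.sup hEab
  have hcl0 : ∀ b ∈ S, ∀ a ∈ Subgroup.closure S, a * b * a⁻¹ * b⁻¹ ∈ E := by
    intro b hb a ha
    induction ha using Subgroup.closure_induction with
    | mem x hx => exact hS x hx b hb
    | one => simp
    | mul x y hx' hy' hx hy =>
      exact cl_mul hy hx fun r hr => hc1.nz x hx' r hr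
    | inv x hx' hx =>
      have e : x⁻¹ * b * x⁻¹⁻¹ * b⁻¹ = x⁻¹ * (x * b * x⁻¹ * b⁻¹)⁻¹ * x⁻¹⁻¹ := by group
      rw [e]
      exact hc1.nz _ (inv_mem hx') _ (inv_mem hx)
  have hcl1 : Cl (Subgroup.closure S) (Subgroup.closure S) E := by
    intro a ha b hb
    induction hb using Subgroup.closure_induction with
    | mem x hx => exact hcl0 x hx a ha
    | one => simp
    | mul x y hx' hy' hx hy =>
      have e : a * (x * y) * a⁻¹ * (x * y)⁻¹ = (a * x * a⁻¹ * x⁻¹) * (x * (a * y * a⁻¹ * y⁻¹) * x⁻¹) := by group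
      rw [e]
      exact mul_mem hx (hc1.nz x hx' _ hy)
    | inv x hx' hx =>
      have e : a * x⁻¹ * a⁻¹ * x⁻¹⁻¹ = x⁻¹ * (a * x * a⁻¹ * x⁻¹)⁻¹ * x⁻¹⁻¹ := by group
      rw [e]
      exact hc1.nz _ (inv_mem hx') _ (inv_mem hx)
  have hcl : Cl (Subgroup.closure S ⊔ E) (Subgroup.closure S ⊔ E) E := by
    refine Cl.sup (Cl.sup' hcl1 (hc1.cl E) hc1.nz hEab.nz) (Cl.sup' (hc1.symm.cl E) (hEab.cl E) hc1.nz hEab.nz) hc1.nz hEab.nz
  refine ⟨⟨le_sup_right, hc.nz, hcl, ?_⟩, hc⟩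
  have hmul : ∀ a ∈ Subgroup.closure S ⊔ E, ∀ b ∈ Subgroup.closure S ⊔ E, a * a ∈ E → b * b ∈ E →
      a * b * (a * b) ∈ E := by
    intro a ha b hb h1 h2
    have e : a * b * (a * b) = (a * (b * a * b⁻¹ * a⁻¹) * a⁻¹) * ((a * a) * (b * b)) := by group
    rw [e]
    exact mul_mem (hc.nz a ha _ (hcl b hb a ha)) (mul_mem h1 h2)
  intro n hn
  obtain ⟨a, ha, b, hb, rfl⟩ := mem_sup (hc1.symm.nz) hn
  refine hmul a (Subgroup.mem_sup_left ha) b (Subgroup.mem_sup_right hb) ?_ (by rw [hEsq b hb]; exact one_mem _)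
  clear hn
  induction ha using Subgroup.closure_induction with
  | mem x hx => exact hsq x hx
  | one => simp
  | mul x y hx' hy' hx hy => exact hmul x (Subgroup.mem_sup_left hx') y (Subgroup.mem_sup_left hy') hx hy
  | inv x hx' hx =>
    have := inv_mem hx
    rwa [mul_inv_rev] at this

theorem isTwo_of_sq {R A : Subgroup G} (hA : ∀ a ∈ A, a * a = 1) (hR : ∀ r ∈ R, r * r ∈ A) : IsPGroup 2 R := by
  rintro ⟨x, hx⟩
  refine ⟨2, Subtype.ext ?_⟩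
  show x ^ 2 ^ 2 = 1
  have h1 := hA _ (hR x hx)
  have e : x ^ 2 ^ 2 = x * x * (x * x) := by
    rw [show (2 : ℕ) ^ 2 = 4 from rfl, pow_succ, pow_succ, pow_two]; group
  rw [e]; exact h1

/-- `{k ∈ N | k ∈ r⁻¹ τ(r) E}` is a subgroup -/
def imBrk (τ : G →* G) {N E : Subgroup G} (hN : Sec N E) (hτ : ∀ n ∈ N, τ n ∈ N) : Subgroup G where
  carrier := {k | k ∈ N ∧ ∃ r ∈ N, k⁻¹ * (r⁻¹ * τ r) ∈ E}
  one_mem' := ⟨one_mem _, 1, one_mem _, by simp⟩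
  mul_mem' := by
    rintro k k' ⟨hk, r, hr, h1⟩ ⟨hk', r', hr', h2⟩
    refine ⟨mul_mem hk hk', r * r', mul_mem hr hr', ?_⟩
    obtain ⟨e, he⟩ : ∃ e, e = k⁻¹ * (r⁻¹ * τ r) := ⟨_, rfl⟩
    have er : τ r = r * k * e := by rw [he]; group
    have e1 : (k * k')⁻¹ * ((r * r')⁻¹ * τ (r * r')) =
        (k'⁻¹ * (k⁻¹ * r'⁻¹ * k⁻¹⁻¹ * r'⁻¹⁻¹) * k'⁻¹⁻¹) * ((r' * k')⁻¹ * e * (r' * k')⁻¹⁻¹) * (k'⁻¹ * (r'⁻¹ * τ r')) := by
      rw [map_mul, er]; group
    show (k * k')⁻¹ * ((r * r')⁻¹ * τ (r * r')) ∈ E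
    rw [e1]
    refine mul_mem (mul_mem (hN.nz _ (inv_mem hk') _ (hN.cl _ (inv_mem hk) _ (inv_mem hr'))) ?_) h2
    exact hN.nz _ (inv_mem (mul_mem hr' hk')) _ (he ▸ h1)
  inv_mem' := by
    rintro k ⟨hk, r, hr, h1⟩
    refine ⟨inv_mem hk, r⁻¹, inv_mem hr, ?_⟩
    obtain ⟨e, he⟩ : ∃ e, e = k⁻¹ * (r⁻¹ * τ r) := ⟨_, rfl⟩
    have er : τ r = r * k * e := by rw [he]; group
    show k⁻¹⁻¹ * (r⁻¹⁻¹ * τ r⁻¹) ∈ E
    have e1 : k⁻¹⁻¹ * (r⁻¹⁻¹ * τ r⁻¹) = (k * r * e⁻¹ * (k * r)⁻¹) * (k * r * k⁻¹ * r⁻¹) := by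
      rw [map_inv, er]; group
    rw [e1]
    exact mul_mem (hN.nz _ (mul_mem hk hr) _ (inv_mem (he ▸ h1))) (hN.cl _ hk _ hr)

/-! ### the group `E = W₀ W₁ W₂` -/

section

variable {τ : G →* G} {X Y W T : ℤ → Subgroup G} (h : InpS τ X Y W T)

include h

theorem yo (c : ℤ) {k : ℤ} (hk : 2 * c + 1 = k := by norm_num) : Y k = X k := by
  rw [← hk]; exact h.Yo c

theorem w12 : Cm (W 1) (W 2) := (base (ref h)).w01.symm

theorem cm_E : Cm (EK W) (EK W) := by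
  have b := base h
  have a00 := h.Wab 0
  have a11 := h.Wab 1
  have a22 := h.Wab 2
  have a01 := b.w01
  have a02 := b.w02
  have a12 := w12 h
  exact ((a00.sup' a01).sup' a02).sup ((a01.symm.sup' a11).sup' a12) |>.sup ((a02.symm.sup' a12.symm).sup' a22)

theorem sq_E : ∀ e ∈ EK W, e * e = 1 := by
  have key : ∀ A B : Subgroup G, (∀ a ∈ A, a * a = 1) → (∀ a ∈ B, a * a = 1) → Cm A B → ∀ a ∈ A ⊔ B, a * a = 1 := by
    intro A B hA hB hAB x hx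
    obtain ⟨a, ha, b, hb, rfl⟩ := mem_sup hAB.symm.nz hx
    calc a * b * (a * b) = a * (b * a) * b := by group
      _ = (a * a) * (b * b) := by rw [← hAB a ha b hb]; group
      _ = 1 := by rw [hA a ha, hB b hb, one_mul]
  have b := base h
  exact key _ _ (key _ _ (h.Wsq 0) (h.Wsq 1) b.w01) (h.Wsq 2) (b.w02.sup (w12 h))

theorem dbl_E : Dbl τ (EK W) (EK Y) := by
  have b := base h
  have d : ∀ i, Dbl τ (W i) (Y i) := fun i =>
    dbl_W h.tt (h.Wab i) (h.Wsq i) (h.Wt i) (fun y hy => h.tX i y (h.YX i hy)) (h.YW i) (h.Wf i) (h.Ws i)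
  have d1 := (d 0).sup_W h.tt (h.Wab 1) (h.Wsq 1) (h.Wt 1) (fun y hy => h.tX 1 y (h.YX 1 hy)) (h.YW 1) (h.Wf 1)
    (h.Ws 1) b.i01 b.w01.symm.nz
  exact d1.sup_W h.tt (h.Wab 2) (h.Wsq 2) (h.Wt 2) (fun y hy => h.tX 2 y (h.YX 2 hy)) (h.YW 2) (h.Wf 2)
    (h.Ws 2) b.i012 (b.w02.sup (w12 h)).symm.nz

theorem tau_E : ∀ e ∈ EK W, τ e ∈ EK W := (dbl_E h).inv

/-- `X₋₃` normalises `E` -/
theorem nz_X3 : Nz (X (-3)) (EK W) := by
  have b := base (neg h)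
  have c2 : Cl (W 2) (X (-3)) (W 0) := b.c23
  have c1 : Cl (W 1) (X (-3)) (W 0) := b.c13
  have c0 : Cm (X (-3)) (W 0) := b.x3w0
  have n0 : Nz (X (-3)) (W 0) := c0.nz
  intro x hx e he
  have : EK W ≤ (EK W).comap (MulAut.conj x).toMonoidHom := by
    have hle : W 0 ≤ EK W := le_sup_left.trans le_sup_left
    refine sup_le (sup_le (fun w hw => hle (n0 x hx w hw)) (fun w hw => ?_)) (fun w hw => ?_)
    · show x * w * x⁻¹ ∈ EK W
      have e1 : x * w * x⁻¹ = (w * x * w⁻¹ * x⁻¹)⁻¹ * w := by group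
      rw [e1]
      exact mul_mem (inv_mem (hle (c1 w hw x hx))) (Subgroup.mem_sup_left (Subgroup.mem_sup_right hw))
    · show x * w * x⁻¹ ∈ EK W
      have e1 : x * w * x⁻¹ = (w * x * w⁻¹ * x⁻¹)⁻¹ * w := by group
      rw [e1]
      exact mul_mem (inv_mem (hle (c2 w hw x hx))) (Subgroup.mem_sup_right hw)
  exact this he

theorem EK_ref : EK (F 1 (-1) W) = EK W := by
  show W 2 ⊔ W 1 ⊔ W 0 = W 0 ⊔ W 1 ⊔ W 2
  rw [sup_comm (W 2) (W 1), sup_comm, ← sup_assoc]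

/-- `X₅` normalises `E` -/
theorem nz_X5 : Nz (X 5) (EK W) := by
  have := nz_X3 (ref h)
  rw [EK_ref h] at this
  exact this

/-- `W₋₂` centralises `E` -/
theorem cm_m2 : Cm (W (-2)) (EK W) := by
  have b := base h
  have bn := base (neg h)
  have a0 : Cm (W 0) (W (-2)) := bn.w02
  have a1 : Cm (W 1) (W (-2)) := bn.w12
  exact (a0.symm.sup' a1.symm).sup' b.w22

/-- `W₄` centralises `E` -/
theorem cm_4 : Cm (W 4) (EK W) := by
  have := cm_m2 (ref h)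
  rw [EK_ref h] at this
  exact this

/-- `W₋₁` centralises `E` -/
theorem cm_m1 : Cm (W (-1)) (EK W) := by
  have b := base h
  have bn := base (neg h)
  have a0 : Cm (W 0) (W (-1)) := bn.w01
  exact (a0.symm.sup' b.w11).sup' b.w12

/-- `W₋₂` commutes with `X₋₃` -/
theorem cm_m2_X : Cm (W (-2)) (X (-3)) := by
  have b := base (rf h (-1))
  have a : Cm (W (-2)) (W (-3)) := b.w01
  have e : Y (-3) = X (-3) := yo h (-2)
  exact a.mono le_rfl (e.ge.trans (h.YW (-3)))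

/-- `W₄` commutes with `X₅` -/
theorem cm_4_X : Cm (W 4) (X 5) := cm_m2_X (ref h)

/-! ### the group `N^` -/

end

/-- the generators of `N^` -/
def gN (X W : ℤ → Subgroup G) : Set G := {g | g ∈ W 4 ∨ ∃ x ∈ X 5, ∃ w ∈ W (-2), g = x * w * x⁻¹}

/-- `N^` -/
def NH (X W : ℤ → Subgroup G) : Subgroup G := Subgroup.closure (gN X W) ⊔ EK W

section

variable {τ : G →* G} {X Y W T : ℤ → Subgroup G} (h : InpS τ X Y W T)

include h

theorem gN_comm : ∀ a ∈ gN X W, ∀ b ∈ gN X W, a * b * a⁻¹ * b⁻¹ ∈ EK W := by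
  have b0 := base h
  have b1 := base (ref h)
  have h5 := nz_X5 h
  have h3 := nz_X3 h
  have c4 := cm_4_X h
  have c2 := cm_m2_X h
  have tri : ∀ g ∈ X 5, g ≠ 1 → ∃ k ∈ X (-3), ∀ w, w ∈ W (-2) ↔ k⁻¹ * (g * w * g⁻¹) * k ∈ W 4 := b1.tri
  have w24 : Cl (W (-2)) (W 4) (EK W) := b0.w24
  -- mixed
  have mix : ∀ a ∈ W 4, ∀ x ∈ X 5, ∀ w ∈ W (-2), a * (x * w * x⁻¹) * a⁻¹ * (x * w * x⁻¹)⁻¹ ∈ EK W := by
    intro a ha x hx w hw
    have e0 : x⁻¹ * a * x = a := by rw [mul_assoc, c4 a ha x hx, inv_mul_cancel_left]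
    have e0' : x⁻¹ * a⁻¹ * x = a⁻¹ := by
      rw [mul_assoc, c4 _ (inv_mem ha) x hx, inv_mul_cancel_left]
    have e : a * (x * w * x⁻¹) * a⁻¹ * (x * w * x⁻¹)⁻¹ = x * ((x⁻¹ * a * x) * w * (x⁻¹ * a⁻¹ * x) * w⁻¹) * x⁻¹ := by
      group
    rw [e, e0, e0']
    exact h5 x hx _ (w24.symm a ha w hw)
  rintro a (ha | ⟨x, hx, w, hw, rfl⟩) b (hb | ⟨y, hy, v, hv, rfl⟩)
  · rw [h.Wab 4 a ha b hb, mul_inv_cancel_right, mul_inv_cancel]; exact one_mem _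
  · exact mix a ha y hy v hv
  · have := inv_mem (mix b hb x hx w hw)
    have e : (b * (x * w * x⁻¹) * b⁻¹ * (x * w * x⁻¹)⁻¹)⁻¹ = x * w * x⁻¹ * b * (x * w * x⁻¹)⁻¹ * b⁻¹ := by group
    rwa [e] at this
  · have e : x * w * x⁻¹ * (y * v * y⁻¹) * (x * w * x⁻¹)⁻¹ * (y * v * y⁻¹)⁻¹ =
        x * (w * ((x⁻¹ * y) * v * (x⁻¹ * y)⁻¹) * w⁻¹ * ((x⁻¹ * y) * v * (x⁻¹ * y)⁻¹)⁻¹) * x⁻¹ := by group
    rw [e]
    apply h5 x hx
    obtain ⟨g, hg⟩ : ∃ g, g = x⁻¹ * y := ⟨_, rfl⟩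
    have hgX : g ∈ X 5 := hg ▸ mul_mem (inv_mem hx) hy
    rw [← hg]
    by_cases hg1 : g = 1
    · subst hg1
      rw [inv_one, mul_one, one_mul, h.Wab (-2) w hw v hv, mul_inv_cancel_right, mul_inv_cancel]
      exact one_mem _
    · obtain ⟨k, hk, htri⟩ := tri g hgX hg1
      have h4 := (htri v).1 hv
      obtain ⟨u, hu⟩ : ∃ u, u = k⁻¹ * (g * v * g⁻¹) * k := ⟨_, rfl⟩
      rw [← hu] at h4
      have e1 : g * v * g⁻¹ = k * u * k⁻¹ := by rw [hu]; group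
      have e2 : k⁻¹ * w * k = w := by rw [mul_assoc, c2 w hw k hk, inv_mul_cancel_left]
      have e3 : k⁻¹ * w⁻¹ * k = w⁻¹ := by rw [mul_assoc, c2 _ (inv_mem hw) k hk, inv_mul_cancel_left]
      rw [e1]
      have e4 : w * (k * u * k⁻¹) * w⁻¹ * (k * u * k⁻¹)⁻¹ = k * ((k⁻¹ * w * k) * u * (k⁻¹ * w⁻¹ * k) * u⁻¹) * k⁻¹ := by
        group
      rw [e4, e2, e3]
      exact h3 k hk _ (w24 w hw u h4)

theorem gN_cent : ∀ a ∈ gN X W, ∀ e ∈ EK W, a * e = e * a := by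
  rintro a (ha | ⟨x, hx, w, hw, rfl⟩) e he
  · exact cm_4 h a ha e he
  · have h1 := nz_X5 h x⁻¹ (inv_mem hx) e he
    rw [inv_inv] at h1
    have h2 := cm_m2 h w hw _ h1
    calc x * w * x⁻¹ * e = x * (w * (x⁻¹ * e * x)) * x⁻¹ := by group
      _ = x * ((x⁻¹ * e * x) * w) * x⁻¹ := by rw [h2]
      _ = e * (x * w * x⁻¹) := by group

theorem gN_sq : ∀ a ∈ gN X W, a * a ∈ EK W := by
  rintro a (ha | ⟨x, hx, w, hw, rfl⟩)
  · rw [h.Wsq 4 a ha]; exact one_mem _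
  · have : x * w * x⁻¹ * (x * w * x⁻¹) = x * (w * w) * x⁻¹ := by group
    rw [this, h.Wsq (-2) w hw, mul_one, mul_inv_cancel]; exact one_mem _

theorem secN : Sec (NH X W) (EK W) := (sec_closure (cm_E h) (sq_E h) (gN_comm h) (gN_cent h) (gN_sq h)).1

theorem cmN : Cm (NH X W) (EK W) := (sec_closure (cm_E h) (sq_E h) (gN_comm h) (gN_cent h) (gN_sq h)).2

theorem tauN : ∀ n ∈ NH X W, τ n ∈ NH X W := by
  have : NH X W ≤ (NH X W).comap τ := by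
    refine sup_le ?_ fun e he => Subgroup.mem_sup_right (tau_E h e he)
    rw [Subgroup.closure_le]
    rintro a (ha | ⟨x, hx, w, hw, rfl⟩)
    · exact Subgroup.mem_sup_left (Subgroup.subset_closure (Or.inl (h.Wt 4 a ha)))
    · refine Subgroup.mem_sup_left (Subgroup.subset_closure (Or.inr ⟨x, hx, τ w, h.Wt (-2) w hw, ?_⟩))
      rw [map_mul, map_mul, map_inv, h.tX 5 x hx]
  exact fun n hn => this hn

theorem W4_le : W 4 ≤ NH X W := fun a ha => Subgroup.mem_sup_left (Subgroup.subset_closure (Or.inl ha))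

theorem Wm2_le : W (-2) ≤ NH X W := fun a ha =>
  Subgroup.mem_sup_left (Subgroup.subset_closure (Or.inr ⟨1, one_mem _, a, ha, by group⟩))

theorem EK_mono : EK Y ≤ EK W := sup_le_sup (sup_le_sup (h.YW 0) (h.YW 1)) (h.YW 2)

theorem NK_le : NK X Y ≤ NH X W := by
  refine (base h).k2.trans (sup_le_sup ?_ (EK_mono h))
  refine Subgroup.closure_mono ?_
  rintro g (hg | ⟨x, hx, y, hy, rfl⟩)
  · exact Or.inl (h.YW 4 hg)
  · exact Or.inr ⟨x, hx, y, h.YW (-2) hy, rfl⟩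

theorem fixN : ∀ n, (∀ e ∈ EK W, n * e = e * n) → τ n = n → n ∈ NK X Y := by
  intro n hn hτ
  have h0 : ∀ w ∈ W 0, n * w = w * n := fun w hw => hn w (Subgroup.mem_sup_left (Subgroup.mem_sup_left hw))
  have h1 : ∀ x ∈ X 1, n * x = x * n := fun x hx => by
    have e : Y 1 = X 1 := yo h 0
    exact hn x (Subgroup.mem_sup_left (Subgroup.mem_sup_right (h.YW 1 (e ▸ hx))))
  have h2 : ∀ y ∈ Y 2, n * y = y * n := fun y hy => hn y (Subgroup.mem_sup_right (h.YW 2 hy))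
  exact (base h).k1 n hτ h0 h1 h2

theorem NK_fix : ∀ k ∈ NK X Y, τ k = k := by
  have hX : ∀ i, X i ≤ τ.eqLocus (MonoidHom.id G) := fun i x hx => h.tX i x hx
  have hY : ∀ i, Y i ≤ τ.eqLocus (MonoidHom.id G) := fun i => (h.YX i).trans (hX i)
  have : NK X Y ≤ τ.eqLocus (MonoidHom.id G) :=
    sup_le (sup_le (sup_le (sup_le (sup_le (sup_le (sup_le (sup_le (hY _) (hY _)) (hY _)) (hY _)) (hY _)) (hX _))
      (hX _)) (hY _)) (hY _)
  exact fun k hk => this hk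

theorem surN : ∀ k ∈ NK X Y, ∃ r ∈ NH X W, k⁻¹ * (r⁻¹ * τ r) ∈ EK W := by
  have hle : NK X Y ≤ imBrk τ (secN h) (tauN h) := by
    refine (base h).k2.trans (sup_le ?_ ?_)
    · rw [Subgroup.closure_le]
      rintro g (hg | ⟨x, hx, y, hy, rfl⟩)
      · obtain ⟨w, hw, hwg⟩ := h.Ws 4 g hg
        refine ⟨W4_le h (h.YW 4 hg), w, W4_le h hw, ?_⟩
        rw [hwg, inv_mul_cancel]; exact one_mem _
      · obtain ⟨w, hw, hwg⟩ := h.Ws (-2) y hy
        have hm : ∀ w ∈ W (-2), x * w * x⁻¹ ∈ NH X W := fun w hw =>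
          Subgroup.mem_sup_left (Subgroup.subset_closure (Or.inr ⟨x, hx, w, hw, rfl⟩))
        refine ⟨hm _ (h.YW (-2) hy), x * w * x⁻¹, hm _ hw, ?_⟩
        have e : (x * y * x⁻¹)⁻¹ * ((x * w * x⁻¹)⁻¹ * τ (x * w * x⁻¹)) = x * (y⁻¹ * (w⁻¹ * τ w)) * x⁻¹ := by
          rw [map_mul, map_mul, map_inv, h.tX 5 x hx]; group
        rw [e, hwg, inv_mul_cancel, mul_one, mul_inv_cancel]; exact one_mem _
    · intro y hy
      refine ⟨(secN h).le (EK_mono h hy), 1, one_mem _, ?_⟩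
      rw [map_one, inv_one, mul_one, mul_one]
      exact inv_mem (EK_mono h hy)
  exact fun k hk => (hle hk).2

theorem dblN : Dbl τ (NH X W) (NK X Y) :=
  dbl_ext h.tt (dbl_E h) (secN h).le (tauN h) (secN h).nz (secN h).sq (NK_le h) (NK_fix h)
    (fun b hb hbf => fixN h b (fun e he => cmN h b hb e he) hbf) (surN h)

theorem twoN : IsPGroup 2 (NH X W) := isTwo_of_sq (sq_E h) (secN h).sq

/-- the centraliser of `E` -/
def CE (W : ℤ → Subgroup G) : Subgroup G := Subgroup.centralizer (EK W : Set G)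

omit h in
theorem mem_CE {g : G} : g ∈ CE W ↔ ∀ e ∈ EK W, g * e = e * g := by
  unfold CE
  rw [Subgroup.mem_centralizer_iff]
  exact ⟨fun h e he => (h e he).symm, fun h e he => (h e he).symm⟩

theorem CE_tau : ∀ g ∈ CE W, τ g ∈ CE W := by
  intro g hg
  rw [mem_CE] at hg ⊢
  intro e he
  have h1 := hg _ (tau_E h e he)
  have h2 := congrArg τ h1
  rw [map_mul, map_mul, h.tt] at h2
  exact h2

/-- **`N^` is a Sylow 2-subgroup of `C_G(E)`.** -/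
theorem maxN [Finite G] {t : G} (t2 : t * t = 1) (hτ : ∀ x, τ x = t * x * t⁻¹) : MaxTwo (CE W) (NH X W) := by
  refine maxTwo_of_free t2 hτ (fun a ha => by rw [← hτ]; exact CE_tau h a ha) (dblN h) ?_ (twoN h) ?_
  · intro n hn
    exact mem_CE.2 (cmN h n hn)
  · intro d hd hdf
    exact NK_le h (fixN h d (mem_CE.1 hd) hdf)

/-- an element of `C_G(E)` with bracket in `NK` lies in `N^` -/
theorem mem_N_of_brk {w : G} (hw : w ∈ CE W) (hb : w⁻¹ * τ w ∈ NK X Y) : w ∈ NH X W := by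
  obtain ⟨r, hr, h1⟩ := surN h _ hb
  obtain ⟨x, hx⟩ : ∃ x, x = w⁻¹ * τ w := ⟨_, rfl⟩
  rw [← hx] at h1 hb
  obtain ⟨e, he⟩ : ∃ e, e = x⁻¹ * (r⁻¹ * τ r) := ⟨_, rfl⟩
  rw [← he] at h1
  have er : τ r = r * x * e := by rw [he]; group
  have ew : τ w = w * x := by rw [hx]; group
  have hxN : x ∈ NH X W := NK_le h hb
  have e1 : (w * r⁻¹)⁻¹ * τ (w * r⁻¹) ∈ EK W := by
    have e2 : (w * r⁻¹)⁻¹ * τ (w * r⁻¹) = (r * x) * e⁻¹ * (r * x)⁻¹ := by
      rw [map_mul, map_inv, er, ew]; group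
    rw [e2]
    exact (secN h).nz _ (mul_mem hr hxN) _ (inv_mem h1)
  obtain ⟨e', he', h2⟩ := (dbl_E h).exists_fix h.tt e1
  have h3 : w * r⁻¹ * e' ∈ CE W := by
    refine mul_mem (mul_mem hw (inv_mem (mem_CE.2 (cmN h r hr)))) (mem_CE.2 (cm_E h e' he'))
  have h4 := NK_le h (fixN h _ (mem_CE.1 h3) h2)
  have e3 : w = (w * r⁻¹ * e') * e'⁻¹ * r := by group
  rw [e3]
  exact mul_mem (mul_mem h4 (inv_mem ((secN h).le he'))) hr

theorem Ym1_le : Y (-1) ≤ NK X Y := by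
  unfold NK MK PK Q1 Q2 RK
  refine le_trans ?_ le_sup_left
  refine le_trans ?_ le_sup_left
  refine le_trans ?_ le_sup_left
  refine le_trans ?_ le_sup_left
  exact le_trans le_sup_right le_sup_left

/-- `W₋₁ ≤ N^` -/
theorem Wm1_le : W (-1) ≤ NH X W := by
  intro w hw
  refine mem_N_of_brk h (mem_CE.2 (cm_m1 h w hw)) (Ym1_le h ?_)
  exact brk_mem h.tt (h.Wab _) (h.Wsq _) (h.Wt _) (h.Wf _) hw

/-- the torus normalises `E` and `N^` -/
theorem T_E (i : ℤ) : Nz (T i) (EK W) := ((h.TW i 0).sup' (h.TW i 1)).sup' (h.TW i 2)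

theorem T_N (i : ℤ) : Nz (T i) (NH X W) := by
  intro t ht
  have : NH X W ≤ (NH X W).comap (MulAut.conj t).toMonoidHom := by
    refine sup_le ?_ fun e he => Subgroup.mem_sup_right (T_E h i t ht e he)
    rw [Subgroup.closure_le]
    rintro a (ha | ⟨x, hx, w, hw, rfl⟩)
    · exact Subgroup.mem_sup_left (Subgroup.subset_closure (Or.inl (h.TW i 4 t ht a ha)))
    · refine Subgroup.mem_sup_left (Subgroup.subset_closure (Or.inr ⟨t * x * t⁻¹, h.TX i 5 t ht x hx, t * w * t⁻¹,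
        h.TW i (-2) t ht w hw, ?_⟩))
      show t * (x * w * x⁻¹) * t⁻¹ = _
      group
  exact fun r hr => this hr

end

end Cfsg.Agent.OddHalf.D7TwF4.Syl.NHat
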