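import Cfsg.Agent.OddHalf.D7TwF4.Syl.Avg

/-!
# Growth for `²F₄(q)` with Sylow subgroups: the doubles of `X₂ / Z₂` and `⁅W₋₁, W₄⁆ ≤ W₂` (helper224)

`A3 h1 h2 h3 x = x ^ h1 x ^ h2 x ^ h3`; the K-facts `Kf` are the field facts
`∃ a b c, a σ(a) + b σ(b) + c σ(c) = 0 ≠ a + b + c` and `∃ a b c, a + b + c = 0 ≠ a σ(a) + b σ(b) + c σ(c)`.
-/

set_option autoImplicit false
set_option linter.unusedVariables false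
set_option linter.unusedSectionVars false

namespace Cfsg.Agent.OddHalf.D7TwF4.Syl.RHat

open Cfsg.Agent.OddHalf.D7TwF4.Growth.Defs Cfsg.Agent.OddHalf.D7TwF4.Growth.Tools
open Cfsg.Agent.OddHalf.D7TwF4.Growth.Frame (F F_F F_id gen)
open Cfsg.Agent.OddHalf.D7TwF4.Syl.Inp Cfsg.Agent.OddHalf.D7TwF4.Syl.Free
open Cfsg.Agent.OddHalf.D7TwF4.Syl.NHat Cfsg.Agent.OddHalf.D7TwF4.Syl.Avg

universe u

variable {G : Type u} [Group G]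

/-! ### the operator `A3` -/

/-- `x ^ h1 x ^ h2 x ^ h3` -/
def A3 (h1 h2 h3 x : G) : G := (h1 * x * h1⁻¹) * (h2 * x * h2⁻¹) * (h3 * x * h3⁻¹)

theorem A3_mem {M T : Subgroup G} (hT : Nz T M) {h1 h2 h3 : G} (t1 : h1 ∈ T) (t2 : h2 ∈ T) (t3 : h3 ∈ T) {x : G}
    (hx : x ∈ M) : A3 h1 h2 h3 x ∈ M := mul_mem (mul_mem (hT _ t1 _ hx) (hT _ t2 _ hx)) (hT _ t3 _ hx)

theorem A3_one (h1 h2 h3 : G) : A3 h1 h2 h3 1 = 1 := by unfold A3; group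

theorem A3_map (f : G →* G) {h1 h2 h3 : G} (t1 : f h1 = h1) (t2 : f h2 = h2) (t3 : f h3 = h3) (x : G) :
    f (A3 h1 h2 h3 x) = A3 h1 h2 h3 (f x) := by
  unfold A3; simp only [map_mul, map_inv, t1, t2, t3]

theorem A3_mul {M T : Subgroup G} (hT : Nz T M) (hM : Cm M M) {h1 h2 h3 : G} (t1 : h1 ∈ T) (t2 : h2 ∈ T) (t3 : h3 ∈ T)
    {x y : G} (hx : x ∈ M) (hy : y ∈ M) : A3 h1 h2 h3 (x * y) = A3 h1 h2 h3 x * A3 h1 h2 h3 y := by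
  unfold A3
  have a1 := hT _ t1 _ hx
  have a2 := hT _ t2 _ hx
  have a3 := hT _ t3 _ hx
  have b1 := hT _ t1 _ hy
  have b2 := hT _ t2 _ hy
  have b3 := hT _ t3 _ hy
  obtain ⟨p1, e1⟩ : ∃ p, p = h1 * x * h1⁻¹ := ⟨_, rfl⟩
  obtain ⟨p2, e2⟩ : ∃ p, p = h2 * x * h2⁻¹ := ⟨_, rfl⟩
  obtain ⟨p3, e3⟩ : ∃ p, p = h3 * x * h3⁻¹ := ⟨_, rfl⟩
  obtain ⟨q1, f1⟩ : ∃ p, p = h1 * y * h1⁻¹ := ⟨_, rfl⟩
  obtain ⟨q2, f2⟩ : ∃ p, p = h2 * y * h2⁻¹ := ⟨_, rfl⟩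
  obtain ⟨q3, f3⟩ : ∃ p, p = h3 * y * h3⁻¹ := ⟨_, rfl⟩
  rw [← e1] at a1; rw [← e2] at a2; rw [← e3] at a3
  rw [← f1] at b1; rw [← f2] at b2; rw [← f3] at b3
  have g1 : h1 * (x * y) * h1⁻¹ = p1 * q1 := by rw [e1, f1]; group
  have g2 : h2 * (x * y) * h2⁻¹ = p2 * q2 := by rw [e2, f2]; group
  have g3 : h3 * (x * y) * h3⁻¹ = p3 * q3 := by rw [e3, f3]; group
  rw [g1, g2, g3, ← e1, ← e2, ← e3, ← f1, ← f2, ← f3]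
  calc p1 * q1 * (p2 * q2) * (p3 * q3) = p1 * (q1 * p2) * (q2 * p3) * q3 := by group
    _ = p1 * p2 * (q1 * p3) * q2 * q3 := by rw [hM q1 b1 p2 a2, hM q2 b2 p3 a3]; group
    _ = p1 * p2 * p3 * (q1 * q2 * q3) := by rw [hM q1 b1 p3 a3]; group

theorem A3_inv {M T : Subgroup G} (hT : Nz T M) (hM : Cm M M) {h1 h2 h3 : G} (t1 : h1 ∈ T) (t2 : h2 ∈ T) (t3 : h3 ∈ T)
    {x : G} (hx : x ∈ M) : A3 h1 h2 h3 x⁻¹ = (A3 h1 h2 h3 x)⁻¹ := by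
  apply eq_inv_of_mul_eq_one_left
  rw [← A3_mul hT hM t1 t2 t3 (inv_mem hx) hx, inv_mul_cancel, A3_one]

/-- multiplicative modulo `E` -/
theorem A3_mul_mod {N E T : Subgroup G} (hS : Sec N E) (hT : Nz T N) {h1 h2 h3 : G} (t1 : h1 ∈ T) (t2 : h2 ∈ T)
    (t3 : h3 ∈ T) {x y : G} (hx : x ∈ N) (hy : y ∈ N) :
    (A3 h1 h2 h3 x * A3 h1 h2 h3 y)⁻¹ * A3 h1 h2 h3 (x * y) ∈ E := by
  obtain ⟨V, _, π, hπ⟩ := exists_quot hS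
  have key : ∀ z (hz : z ∈ N), π ⟨A3 h1 h2 h3 z, A3_mem hT t1 t2 t3 hz⟩ =
      π ⟨h1 * z * h1⁻¹, hT _ t1 _ hz⟩ * π ⟨h2 * z * h2⁻¹, hT _ t2 _ hz⟩ * π ⟨h3 * z * h3⁻¹, hT _ t3 _ hz⟩ := by
    intro z hz
    rw [← map_mul, ← map_mul]
    rfl
  have hm : ∀ g (hg : g ∈ T), π ⟨g * (x * y) * g⁻¹, hT _ hg _ (mul_mem hx hy)⟩ =
      π ⟨g * x * g⁻¹, hT _ hg _ hx⟩ * π ⟨g * y * g⁻¹, hT _ hg _ hy⟩ := by
    intro g hg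
    rw [← map_mul]
    congr 1
    apply Subtype.ext
    show g * (x * y) * g⁻¹ = g * x * g⁻¹ * (g * y * g⁻¹)
    group
  have h4 : π ⟨A3 h1 h2 h3 (x * y), A3_mem hT t1 t2 t3 (mul_mem hx hy)⟩ =
      π ⟨A3 h1 h2 h3 x, A3_mem hT t1 t2 t3 hx⟩ * π ⟨A3 h1 h2 h3 y, A3_mem hT t1 t2 t3 hy⟩ := by
    have c6 : ∀ a b c d e f : V, (a * b) * (c * d) * (e * f) = (a * c * e) * (b * d * f) := by
      intro a b c d e f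
      rw [mul_mul_mul_comm a b c d, mul_mul_mul_comm (a * c) (b * d) e f]
    rw [key _ (mul_mem hx hy), key x hx, key y hy, hm h1 t1, hm h2 t2, hm h3 t3]
    exact c6 _ _ _ _ _ _
  have h5 : π ((⟨A3 h1 h2 h3 x, A3_mem hT t1 t2 t3 hx⟩ * ⟨A3 h1 h2 h3 y, A3_mem hT t1 t2 t3 hy⟩)⁻¹ *
      ⟨A3 h1 h2 h3 (x * y), A3_mem hT t1 t2 t3 (mul_mem hx hy)⟩) = 1 := by
    rw [map_mul, map_inv, map_mul, h4, inv_mul_cancel]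
  exact (hπ _).1 h5

/-! ### the K-facts -/

/-- the field facts -/
structure Kf (X Y T : ℤ → Subgroup G) : Prop where
  fA : ∃ h1 ∈ T 2, ∃ h2 ∈ T 2, ∃ h3 ∈ T 2, (∀ y ∈ Y (-1), A3 h1 h2 h3 y = 1) ∧ (∀ y ∈ Y (-2), A3 h1 h2 h3 y = 1) ∧
    ∀ y ∈ Y 1, A3 h1 h2 h3 y = 1 → y = 1
  fB : ∃ h1 ∈ T (-2), ∃ h2 ∈ T (-2), ∃ h3 ∈ T (-2), (∀ x ∈ X 2, A3 h1 h2 h3 x ∈ Y 2) ∧
    ∀ y ∈ Y 0, A3 h1 h2 h3 y = 1 → y = 1
  fC : ∃ h1 ∈ T (-1), ∃ h2 ∈ T (-1), ∃ h3 ∈ T (-1), (∀ y ∈ Y 4, A3 h1 h2 h3 y = 1) ∧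
    (∀ y ∈ Y 0, A3 h1 h2 h3 y = 1 → y = 1) ∧ ∀ y ∈ Y 1, A3 h1 h2 h3 y = 1 → y = 1

/-- fixed point free modulo an invariant subgroup -/
theorem fpf_mem [Finite G] {M D : Subgroup G} {h : G} (hM : ∀ x ∈ M, h * x * h⁻¹ ∈ M)
    (hf : ∀ x ∈ M, h * x * h⁻¹ = x → x = 1) (hD : D ≤ M) (hDi : ∀ x ∈ D, h * x * h⁻¹ ∈ D) {x : G} (hx : x ∈ M)
    (hxD : x⁻¹ * (h * x * h⁻¹) ∈ D) : x ∈ D := by
  have hinj : ∀ a ∈ M, ∀ b ∈ M, a⁻¹ * (h * a * h⁻¹) = b⁻¹ * (h * b * h⁻¹) → a = b := by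
    intro a ha b hb e
    have e2 : h * (b * a⁻¹) * h⁻¹ = b * a⁻¹ := by
      calc h * (b * a⁻¹) * h⁻¹ = b * (b⁻¹ * (h * b * h⁻¹)) * (h * a * h⁻¹)⁻¹ := by group
        _ = b * (a⁻¹ * (h * a * h⁻¹)) * (h * a * h⁻¹)⁻¹ := by rw [e]
        _ = b * a⁻¹ := by group
    exact (mul_inv_eq_one.1 (hf _ (mul_mem hb (inv_mem ha)) e2)).symm
  let f : D → D := fun d => ⟨(d : G)⁻¹ * (h * d * h⁻¹), mul_mem (inv_mem d.2) (hDi d d.2)⟩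
  have hf' : Function.Injective f := by
    intro a b hab
    exact Subtype.ext (hinj a (hD a.2) b (hD b.2) (congrArg Subtype.val hab))
  obtain ⟨d, hd⟩ := Finite.surjective_of_injective hf' ⟨_, hxD⟩
  have e : (d : G)⁻¹ * (h * d * h⁻¹) = x⁻¹ * (h * x * h⁻¹) := congrArg Subtype.val hd
  rw [← hinj d (hD d.2) x hx e]
  exact d.2

section

variable {τ : G →* G} {X Y W T : ℤ → Subgroup G} (h : InpS τ X Y W T)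

include h

/-- `A3` twice on `W i` -/
theorem A3_kill {i j : ℤ} {h1 h2 h3 : G} (t1 : h1 ∈ T j) (t2 : h2 ∈ T j) (t3 : h3 ∈ T j)
    (hk : ∀ y ∈ Y i, A3 h1 h2 h3 y = 1) : ∀ w ∈ W i, A3 h1 h2 h3 (A3 h1 h2 h3 w) = 1 := by
  intro w hw
  have hT := h.TW j i
  have hv := A3_mem hT t1 t2 t3 hw
  apply hk
  apply h.Wf i _ hv
  have h5 : w⁻¹ * τ w ∈ Y i := brk_mem h.tt (h.Wab i) (h.Wsq i) (h.Wt i) (h.Wf i) hw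
  have h6 := hk _ h5
  rw [A3_mul hT (h.Wab i) t1 t2 t3 (inv_mem hw) (h.Wt i w hw), A3_inv hT (h.Wab i) t1 t2 t3 hw] at h6
  rw [A3_map τ (h.tT j _ t1) (h.tT j _ t2) (h.tT j _ t3)]
  exact (inv_mul_eq_one.1 h6).symm

theorem A3_inj {i j : ℤ} {h1 h2 h3 : G} (t1 : h1 ∈ T j) (t2 : h2 ∈ T j) (t3 : h3 ∈ T j)
    (hk : ∀ y ∈ Y i, A3 h1 h2 h3 y = 1 → y = 1) : ∀ w ∈ W i, A3 h1 h2 h3 w = 1 → w = 1 := by
  intro w hw hA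
  have hT := h.TW j i
  have h5 : w⁻¹ * τ w ∈ Y i := brk_mem h.tt (h.Wab i) (h.Wsq i) (h.Wt i) (h.Wf i) hw
  have h6 : A3 h1 h2 h3 (w⁻¹ * τ w) = 1 := by
    rw [A3_mul hT (h.Wab i) t1 t2 t3 (inv_mem hw) (h.Wt i w hw), A3_inv hT (h.Wab i) t1 t2 t3 hw,
      ← A3_map τ (h.tT j _ t1) (h.tT j _ t2) (h.tT j _ t3), hA, map_one, inv_one, one_mul]
  have h7 := hk _ h5 h6
  have h8 : τ w = w := (inv_mul_eq_one.1 h7).symm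
  exact hk w (h.Wf i w hw h8) hA

/-- `A3` from `T i` is the identity on `W i` -/
theorem A3_self {i : ℤ} {h1 h2 h3 : G} (t1 : h1 ∈ T i) (t2 : h2 ∈ T i) (t3 : h3 ∈ T i) : ∀ w ∈ W i,
    A3 h1 h2 h3 w = w := by
  intro w hw
  unfold A3
  rw [h.TWc i _ t1 w hw, h.TWc i _ t2 w hw, h.TWc i _ t3 w hw, mul_inv_cancel_right, mul_inv_cancel_right,
    mul_inv_cancel_right, h.Wsq i w hw, one_mul]

theorem W01_inf : W 0 ⊓ W 1 = ⊥ := by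
  have d := dbl_W h.tt (h.Wab 0) (h.Wsq 0) (h.Wt 0) (fun y hy => h.tX 0 y (h.YX 0 hy)) (h.YW 0) (h.Wf 0) (h.Ws 0)
  exact Growth.Tools.inf_eq_bot d h.tt (h.Wab 1) (h.Wsq 1) (h.Wt 1) (h.Wf 1) (base h).i01

theorem W012_inf : (W 0 ⊔ W 1) ⊓ W 2 = ⊥ := by
  have d := dbl_W h.tt (h.Wab 0) (h.Wsq 0) (h.Wt 0) (fun y hy => h.tX 0 y (h.YX 0 hy)) (h.YW 0) (h.Wf 0) (h.Ws 0)
  have d1 := d.sup_W h.tt (h.Wab 1) (h.Wsq 1) (h.Wt 1) (fun y hy => h.tX 1 y (h.YX 1 hy)) (h.YW 1) (h.Wf 1)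
    (h.Ws 1) (base h).i01 (base h).w01.symm.nz
  exact Growth.Tools.inf_eq_bot d1 h.tt (h.Wab 2) (h.Wsq 2) (h.Wt 2) (h.Wf 2) (base h).i012

/-- decomposition of an element of `E` killed by `A3 ∘ A3` -/
theorem E_decomp {j : ℤ} {h1 h2 h3 : G} (t1 : h1 ∈ T j) (t2 : h2 ∈ T j) (t3 : h3 ∈ T j) {e : G} (he : e ∈ EK W)
    (hA : A3 h1 h2 h3 (A3 h1 h2 h3 e) = 1) : ∃ w0 ∈ W 0, ∃ w1 ∈ W 1, ∃ w2 ∈ W 2, e = w0 * w1 * w2 ∧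
      A3 h1 h2 h3 (A3 h1 h2 h3 w0) = 1 ∧ A3 h1 h2 h3 (A3 h1 h2 h3 w1) = 1 ∧ A3 h1 h2 h3 (A3 h1 h2 h3 w2) = 1 := by
  have b := base h
  obtain ⟨w01, hw01, w2, hw2, rfl⟩ := mem_sup (b.w02.sup (w12 h)).symm.nz he
  obtain ⟨w0, hw0, w1, hw1, rfl⟩ := mem_sup b.w01.symm.nz hw01
  refine ⟨w0, hw0, w1, hw1, w2, hw2, rfl, ?_⟩
  have hTE := T_E h j
  have i0 : W 0 ≤ EK W := le_sup_left.trans le_sup_left
  have i1 : W 1 ≤ EK W := le_sup_right.trans le_sup_left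
  have i2 : W 2 ≤ EK W := le_sup_right
  have m : ∀ {x y}, x ∈ EK W → y ∈ EK W → A3 h1 h2 h3 (A3 h1 h2 h3 (x * y)) =
      A3 h1 h2 h3 (A3 h1 h2 h3 x) * A3 h1 h2 h3 (A3 h1 h2 h3 y) := by
    intro x y hx hy
    rw [A3_mul hTE (cm_E h) t1 t2 t3 hx hy, A3_mul hTE (cm_E h) t1 t2 t3 (A3_mem hTE t1 t2 t3 hx)
      (A3_mem hTE t1 t2 t3 hy)]
  rw [m (mul_mem (i0 hw0) (i1 hw1)) (i2 hw2), m (i0 hw0) (i1 hw1)] at hA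
  have k0 := A3_mem (h.TW j 0) t1 t2 t3 (A3_mem (h.TW j 0) t1 t2 t3 hw0)
  have k1 := A3_mem (h.TW j 1) t1 t2 t3 (A3_mem (h.TW j 1) t1 t2 t3 hw1)
  have k2 := A3_mem (h.TW j 2) t1 t2 t3 (A3_mem (h.TW j 2) t1 t2 t3 hw2)
  have e2 : A3 h1 h2 h3 (A3 h1 h2 h3 w2) = 1 := by
    have h5 : A3 h1 h2 h3 (A3 h1 h2 h3 w2) ∈ (W 0 ⊔ W 1) ⊓ W 2 := by
      refine Subgroup.mem_inf.2 ⟨?_, k2⟩
      rw [show A3 h1 h2 h3 (A3 h1 h2 h3 w2) = (A3 h1 h2 h3 (A3 h1 h2 h3 w0) * A3 h1 h2 h3 (A3 h1 h2 h3 w1))⁻¹ from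
        (eq_inv_of_mul_eq_one_right hA)]
      exact (W 0 ⊔ W 1).inv_mem (Subgroup.mul_mem_sup k0 k1)
    rwa [W012_inf h, Subgroup.mem_bot] at h5
  rw [e2, mul_one] at hA
  have e1 : A3 h1 h2 h3 (A3 h1 h2 h3 w1) = 1 := by
    have h5 : A3 h1 h2 h3 (A3 h1 h2 h3 w1) ∈ W 0 ⊓ W 1 := by
      refine Subgroup.mem_inf.2 ⟨?_, k1⟩
      rw [show A3 h1 h2 h3 (A3 h1 h2 h3 w1) = (A3 h1 h2 h3 (A3 h1 h2 h3 w0))⁻¹ from (eq_inv_of_mul_eq_one_right hA)]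
      exact (W 0).inv_mem k0
    rwa [W01_inf h, Subgroup.mem_bot] at h5
  rw [e1, mul_one] at hA
  exact ⟨hA, e1, e2⟩

/-! ### `⁅W₋₁, W₄⁆ ≤ W₂` -/

theorem w14 (k : Kf X Y T) : Cl (W (-1)) (W 4) (W 2) := by
  obtain ⟨h1, t1, h2, t2, h3, t3, f4, f0, f1⟩ := k.fC
  intro w hw a ha
  have hwN := Wm1_le h hw
  have hwE : w * a * w⁻¹ * a⁻¹ ∈ EK W := (secN h).cl w hwN a (W4_le h ha)
  have c : ∀ g ∈ T (-1), g * w = w * g := fun g hg => h.TWc (-1) g hg w hw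
  -- the map `a ↦ ⁅w, a⁆`
  have hc1 : ∀ g ∈ T (-1), ∀ a, w * (g * a * g⁻¹) * w⁻¹ * (g * a * g⁻¹)⁻¹ = g * (w * a * w⁻¹ * a⁻¹) * g⁻¹ := by
    intro g hg a
    have e : w * g = g * w := (c g hg).symm
    have e' : g⁻¹ * w⁻¹ = w⁻¹ * g⁻¹ := by rw [← mul_inv_rev, e, mul_inv_rev]
    calc w * (g * a * g⁻¹) * w⁻¹ * (g * a * g⁻¹)⁻¹ = (w * g) * a * (g⁻¹ * w⁻¹) * (g * a⁻¹ * g⁻¹) := by group
      _ = _ := by rw [e, e']; group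
  have hmul : ∀ a ∈ W 4, ∀ b ∈ W 4, w * (a * b) * w⁻¹ * (a * b)⁻¹ = (w * a * w⁻¹ * a⁻¹) * (w * b * w⁻¹ * b⁻¹) := by
    intro a ha b hb
    have e : w * (a * b) * w⁻¹ * (a * b)⁻¹ = (w * a * w⁻¹ * a⁻¹) * (a * (w * b * w⁻¹ * b⁻¹) * a⁻¹) := by group
    rw [e, cmN h a (W4_le h ha) _ ((secN h).cl w hwN b (W4_le h hb)), mul_inv_cancel_right]
  have hA3 : ∀ a ∈ W 4, w * (A3 h1 h2 h3 a) * w⁻¹ * (A3 h1 h2 h3 a)⁻¹ = A3 h1 h2 h3 (w * a * w⁻¹ * a⁻¹) := by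
    intro a ha
    have m1 := h.TW (-1) 4 _ t1 a ha
    have m2 := h.TW (-1) 4 _ t2 a ha
    have m3 := h.TW (-1) 4 _ t3 a ha
    unfold A3
    rw [hmul _ (mul_mem m1 m2) _ m3, hmul _ m1 _ m2, hc1 _ t1, hc1 _ t2, hc1 _ t3]
  have h5 : A3 h1 h2 h3 (A3 h1 h2 h3 (w * a * w⁻¹ * a⁻¹)) = 1 := by
    rw [← hA3 a ha, ← hA3 _ (A3_mem (h.TW (-1) 4) t1 t2 t3 ha), A3_kill h t1 t2 t3 f4 a ha]
    group
  obtain ⟨w0, hw0, w1, hw1, w2, hw2, e, k0, k1, k2⟩ := E_decomp h t1 t2 t3 hwE h5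
  have e0 : w0 = 1 := A3_inj h t1 t2 t3 f0 w0 hw0 (A3_inj h t1 t2 t3 f0 _ (A3_mem (h.TW (-1) 0) t1 t2 t3 hw0) k0)
  have e1 : w1 = 1 := A3_inj h t1 t2 t3 f1 w1 hw1 (A3_inj h t1 t2 t3 f1 _ (A3_mem (h.TW (-1) 1) t1 t2 t3 hw1) k1)
  rw [e, e0, e1, one_mul, one_mul]
  exact hw2

/-! ### the doubles of `X₂ / Z₂` -/

omit h in
theorem NK_le_of {S : Subgroup G} (hE : EK Y ≤ S) (h1 : Y (-1) ≤ S) (h2 : Y (-2) ≤ S) (h0 : X 0 ≤ S) (hx2 : X 2 ≤ S)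
    (h3 : Y 3 ≤ S) (h4 : Y 4 ≤ S) : NK X Y ≤ S :=
  sup_le (sup_le (sup_le (sup_le (sup_le (sup_le hE h1) h2) h0) hx2) h3) h4

omit h in
theorem le_X0 (X Y : ℤ → Subgroup G) : X 0 ≤ NK X Y := by
  have a : X 0 ≤ Q1 X Y := le_sup_right
  have b : Q1 X Y ≤ PK X Y := le_sup_left
  have c : PK X Y ≤ MK X Y := le_sup_left
  have d : MK X Y ≤ NK X Y := le_sup_left
  exact ((a.trans b).trans c).trans d

omit h in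
theorem le_Y3 (X Y : ℤ → Subgroup G) : Y 3 ≤ NK X Y := by
  have c : Y 3 ≤ MK X Y := le_sup_right
  have d : MK X Y ≤ NK X Y := le_sup_left
  exact c.trans d

theorem X2_le : X 2 ≤ NK X Y := by
  unfold NK MK
  exact le_trans (le_trans le_sup_right le_sup_left) le_sup_left

variable [Finite G]

/-- a `T₂`-invariant double -/
theorem exists_u {x : G} (hx : x ∈ X 2) : ∃ u ∈ NH X W, x⁻¹ * (u⁻¹ * τ u) ∈ EK W ∧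
    ∀ g ∈ T 2, u⁻¹ * (g * u * g⁻¹) ∈ EK W := by
  have hS := secN h
  have hTN := T_N h 2
  have hTE := T_E h 2
  obtain ⟨r, hr, h1⟩ := surN h x (X2_le h hx)
  have hxN : x ∈ NH X W := NK_le h (X2_le h hx)
  obtain ⟨e, he⟩ : ∃ e, e = x⁻¹ * (r⁻¹ * τ r) := ⟨_, rfl⟩
  rw [← he] at h1
  have er : τ r = r * (x * e) := by rw [he]; group
  refine ⟨Av (T 2) r, Av_mem hTN hr, ?_, fun g hg => Av_fix hS hTN hr hg⟩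
  rw [Av_map τ (h.tT 2), er]
  have a1 := Av_mul hS hTN hr (mul_mem hxN (hS.le h1))
  have a2 := Av_mul hS hTN hxN (hS.le h1)
  have a3 : Av (T 2) e ∈ EK W := Av_mem hTE h1
  have a4 : x⁻¹ * Av (T 2) x ∈ EK W := Av_of_fix hS hTN (h.Todd 2) hxN (fun g hg => by
    rw [h.TXc 2 g hg x hx, mul_inv_cancel_right, inv_mul_cancel]; exact one_mem _)
  have e1 : x⁻¹ * ((Av (T 2) r)⁻¹ * Av (T 2) (r * (x * e))) =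
      (x⁻¹ * Av (T 2) x) * Av (T 2) e * ((Av (T 2) x * Av (T 2) e)⁻¹ * Av (T 2) (x * e)) *
      ((Av (T 2) (x * e))⁻¹ * (Av (T 2) r)⁻¹ * Av (T 2) (r * (x * e))) := by group
  rw [e1]
  refine mul_mem (mul_mem (mul_mem a4 a3) a2) ?_
  have e2 : (Av (T 2) (x * e))⁻¹ * (Av (T 2) r)⁻¹ * Av (T 2) (r * (x * e)) =
      (Av (T 2) r * Av (T 2) (x * e))⁻¹ * Av (T 2) (r * (x * e)) := by group
  rw [e2]; exact a1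

/-- fixed points of `T₂` modulo `E` in `NK` -/
theorem kT2 {c : G} (hc : c ∈ NK X Y) (hf : ∀ g ∈ T 2, c⁻¹ * (g * c * g⁻¹) ∈ EK W) : ∃ x ∈ X 2, x⁻¹ * c ∈ EK W := by
  have hS := secN h
  have hTN := T_N h 2
  have hTE := T_E h 2
  have hX2 : X 2 ≤ NH X W := (X2_le h).trans (NK_le h)
  have hAv1 : Av (T 2) (1 : G) = 1 := by
    have := Av_mem (T := T 2) (M := (⊥ : Subgroup G)) (fun g _ r hr => by
      rw [Subgroup.mem_bot] at hr ⊢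
      rw [hr]; group) (one_mem _)
    rwa [Subgroup.mem_bot] at this
  let S : Subgroup G :=
    { carrier := {c | c ∈ NH X W ∧ ∃ x ∈ X 2, x⁻¹ * Av (T 2) c ∈ EK W}
      one_mem' := ⟨one_mem _, 1, one_mem _, by rw [hAv1]; simp⟩
      mul_mem' := by
        rintro a b ⟨ha, x, hx, h1⟩ ⟨hb, y, hy, h2⟩
        refine ⟨mul_mem ha hb, x * y, mul_mem hx hy, ?_⟩
        have h3 := Av_mul hS hTN ha hb
        have e : (x * y)⁻¹ * Av (T 2) (a * b) = (y⁻¹ * (x⁻¹ * Av (T 2) a) * y⁻¹⁻¹) * (y⁻¹ * Av (T 2) b) *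
            ((Av (T 2) a * Av (T 2) b)⁻¹ * Av (T 2) (a * b)) := by group
        rw [e]
        exact mul_mem (mul_mem (hS.nz _ (inv_mem (hX2 hy)) _ h1) h2) h3
      inv_mem' := by
        rintro a ⟨ha, x, hx, h1⟩
        refine ⟨inv_mem ha, x⁻¹, inv_mem hx, ?_⟩
        have h3 := Av_mul hS hTN ha (inv_mem ha)
        rw [mul_inv_cancel, hAv1, mul_one] at h3
        have e : x⁻¹⁻¹ * Av (T 2) a⁻¹ = (x * (x⁻¹ * Av (T 2) a) * x⁻¹)⁻¹ * (Av (T 2) a * Av (T 2) a⁻¹) := by group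
        rw [e]
        exact mul_mem (inv_mem (hS.nz _ (hX2 hx) _ h1)) (inv_mem_iff.1 h3) }
  -- the components `≠ 2`
  have key : ∀ j : ℤ, ¬ (8 : ℤ) ∣ j - 2 → ∀ M : Subgroup G, M ≤ X j → Nz (T 2) M → M ≤ NH X W → M ≤ S := by
    intro j hj M hMX hTM hMN x hx
    refine ⟨hMN hx, 1, one_mem _, ?_⟩
    rw [inv_one, one_mul]
    obtain ⟨g, hg, hgf⟩ := h.hf 2 j hj
    have hA := Av_mem hTM hx
    have hD : Av (T 2) x ∈ EK W ⊓ M := by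
      refine fpf_mem (fun x hx => hTM g hg x hx) (fun x hx => hgf x (hMX hx)) inf_le_right
        (fun x hx => Subgroup.mem_inf.2 ⟨hTE g hg x hx.1, hTM g hg x hx.2⟩) hA ?_
      exact Subgroup.mem_inf.2 ⟨Av_fix hS hTN (hMN hx) hg, mul_mem (inv_mem hA) (hTM g hg _ hA)⟩
    exact hD.1
  have hNK := NK_le h
  have hNS : NK X Y ≤ S := by
    refine NK_le_of ?_ ?_ ?_ ?_ ?_ ?_ ?_
    · intro y hy
      have hyE := EK_mono h hy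
      refine ⟨hS.le hyE, 1, one_mem _, ?_⟩
      rw [inv_one, one_mul]
      exact Av_mem hTE hyE
    · exact key (-1) (by decide) _ (h.YX _) (h.TY 2 _) ((Ym1_le h).trans hNK)
    · exact key (-2) (by decide) _ (h.YX _) (h.TY 2 _) ((h.YW _).trans (Wm2_le h))
    · exact key 0 (by decide) _ le_rfl (h.TX 2 _) ((le_X0 X Y).trans hNK)
    · intro x hx
      refine ⟨hX2 hx, x, hx, ?_⟩
      exact Av_of_fix hS hTN (h.Todd 2) (hX2 hx) (fun g hg => by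
        rw [h.TXc 2 g hg x hx, mul_inv_cancel_right, inv_mul_cancel]; exact one_mem _)
    · exact key 3 (by decide) _ (h.YX _) (h.TY 2 _) ((le_Y3 X Y).trans hNK)
    · exact key 4 (by decide) _ (h.YX _) (h.TY 2 _) ((h.YW _).trans (W4_le h))
  obtain ⟨hcN, x, hx, h1⟩ := hNS hc
  refine ⟨x, hx, ?_⟩
  have h2 := Av_of_fix hS hTN (h.Todd 2) hcN hf
  have e : x⁻¹ * c = (x⁻¹ * Av (T 2) c) * (c⁻¹ * Av (T 2) c)⁻¹ := by group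
  rw [e]
  exact mul_mem h1 (inv_mem h2)

end

end Cfsg.Agent.OddHalf.D7TwF4.Syl.RHat
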