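import Cfsg.Agent.OddHalf.D7TwF4.Syl.RHat

/-!
# Growth for `²F₄(q)` with Sylow subgroups: the doubles of `X₂ / Z₂` against `W₋₂`, `W₋₁` (helper224)
-/

set_option autoImplicit false
set_option linter.unusedVariables false
set_option linter.unusedSectionVars false

namespace Cfsg.Agent.OddHalf.D7TwF4.Syl.RTwo

open Cfsg.Agent.OddHalf.D7TwF4.Growth.Defs Cfsg.Agent.OddHalf.D7TwF4.Growth.Tools
open Cfsg.Agent.OddHalf.D7TwF4.Growth.Frame (F F_F F_id gen)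
open Cfsg.Agent.OddHalf.D7TwF4.Syl.Inp Cfsg.Agent.OddHalf.D7TwF4.Syl.Free
open Cfsg.Agent.OddHalf.D7TwF4.Syl.NHat Cfsg.Agent.OddHalf.D7TwF4.Syl.Avg Cfsg.Agent.OddHalf.D7TwF4.Syl.RHat

universe u

variable {G : Type u} [Group G]

variable {τ : G →* G} {X Y W T : ℤ → Subgroup G} (h : InpS τ X Y W T)

/-- fixed points of `T₂` on `N^ / E` -/
structure RR (X W T : ℤ → Subgroup G) (v : G) : Prop where
  mem : v ∈ NH X W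
  fix : ∀ g ∈ T 2, v⁻¹ * (g * v * g⁻¹) ∈ EK W

include h

theorem RR.mul {u v : G} (hu : RR X W T u) (hv : RR X W T v) : RR X W T (u * v) where
  mem := mul_mem hu.mem hv.mem
  fix := by
    intro g hg
    have e : (u * v)⁻¹ * (g * (u * v) * g⁻¹) = (v⁻¹ * (u⁻¹ * (g * u * g⁻¹)) * v⁻¹⁻¹) * (v⁻¹ * (g * v * g⁻¹)) := by group
    rw [e]
    exact mul_mem ((secN h).nz _ (inv_mem hv.mem) _ (hu.fix g hg)) (hv.fix g hg)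

theorem RR.conj {u : G} (hu : RR X W T u) {i : ℤ} {k : G} (hk : k ∈ T i) : RR X W T (k * u * k⁻¹) where
  mem := T_N h i k hk u hu.mem
  fix := by
    intro g hg
    have e0 := h.TT i 2 k hk g hg
    have e : (k * u * k⁻¹)⁻¹ * (g * (k * u * k⁻¹) * g⁻¹) = k * (u⁻¹ * (g * u * g⁻¹)) * k⁻¹ := by
      have e1 : k⁻¹ * g * k = g := by rw [mul_assoc, ← e0, inv_mul_cancel_left]
      have e2 : k⁻¹ * g⁻¹ * k = g⁻¹ := by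
        calc k⁻¹ * g⁻¹ * k = (k⁻¹ * g * k)⁻¹ := by group
          _ = g⁻¹ := by rw [e1]
      calc (k * u * k⁻¹)⁻¹ * (g * (k * u * k⁻¹) * g⁻¹) = k * (u⁻¹ * ((k⁻¹ * g * k) * u * (k⁻¹ * g⁻¹ * k))) * k⁻¹ := by group
        _ = _ := by rw [e1, e2]
    rw [e]
    exact T_E h i k hk _ (hu.fix g hg)

theorem RR.of_E {e : G} (he : e ∈ EK W) : RR X W T e where
  mem := (secN h).le he
  fix := fun g hg => mul_mem (inv_mem he) (T_E h 2 g hg e he)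

theorem RR.A3 {u : G} (hu : RR X W T u) {i : ℤ} {h1 h2 h3 : G} (t1 : h1 ∈ T i) (t2 : h2 ∈ T i) (t3 : h3 ∈ T i) :
    RR X W T (A3 h1 h2 h3 u) := ((hu.conj h t1).mul h (hu.conj h t2)).mul h (hu.conj h t3)

/-- `⁅w, u⁆ ∈ W₀` for `u` fixed by `T₂` modulo `E` and `w` killed by the triple `fA` -/
theorem comm_W0 {u : G} (hu : RR X W T u) {h1 h2 h3 : G} (t1 : h1 ∈ T 2) (t2 : h2 ∈ T 2) (t3 : h3 ∈ T 2)
    (hY1 : ∀ y ∈ Y 1, RHat.A3 h1 h2 h3 y = 1 → y = 1) {w : G} (hw : w ∈ NH X W)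
    (hA : RHat.A3 h1 h2 h3 (RHat.A3 h1 h2 h3 w) = 1) : w * u * w⁻¹ * u⁻¹ ∈ W 0 := by
  have hS := secN h
  have hTN := T_N h 2
  have hc1 : ∀ g ∈ T 2, ∀ w ∈ NH X W, (g * w * g⁻¹) * u * (g * w * g⁻¹)⁻¹ * u⁻¹ = g * (w * u * w⁻¹ * u⁻¹) * g⁻¹ := by
    intro g hg w hw
    have h5 := hu.fix g⁻¹ (inv_mem hg)
    rw [inv_inv] at h5
    obtain ⟨e, he⟩ : ∃ e, e = u⁻¹ * (g⁻¹ * u * g) := ⟨_, rfl⟩
    rw [← he] at h5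
    have eu : g⁻¹ * u * g = u * e := by rw [he]; group
    have eu2 : g * u⁻¹ * g⁻¹ = g * e * g⁻¹ * u⁻¹ := by
      have : u⁻¹ = g * (e⁻¹ * u⁻¹) * g⁻¹ := by
        rw [← mul_inv_rev, ← eu]; group
      calc g * u⁻¹ * g⁻¹ = g * e * g⁻¹ * (g * (e⁻¹ * u⁻¹) * g⁻¹) := by group
        _ = _ := by rw [← this]
    have ew : e * w⁻¹ = w⁻¹ * e := (cmN h _ (inv_mem hw) e h5).symm
    calc (g * w * g⁻¹) * u * (g * w * g⁻¹)⁻¹ * u⁻¹ = g * w * (g⁻¹ * u * g) * w⁻¹ * g⁻¹ * u⁻¹ := by group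
      _ = g * w * u * (e * w⁻¹) * g⁻¹ * u⁻¹ := by rw [eu]; group
      _ = g * w * u * w⁻¹ * g⁻¹ * (g * e * g⁻¹ * u⁻¹) := by rw [ew]; group
      _ = g * w * u * w⁻¹ * g⁻¹ * (g * u⁻¹ * g⁻¹) := by rw [← eu2]
      _ = _ := by group
  have hcE : ∀ w ∈ NH X W, w * u * w⁻¹ * u⁻¹ ∈ EK W := fun w hw => hS.cl w hw u hu.mem
  have hmul : ∀ a ∈ NH X W, ∀ b ∈ NH X W, (a * b) * u * (a * b)⁻¹ * u⁻¹ = (a * u * a⁻¹ * u⁻¹) * (b * u * b⁻¹ * u⁻¹) := by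
    intro a ha b hb
    have e : (a * b) * u * (a * b)⁻¹ * u⁻¹ = (a * (b * u * b⁻¹ * u⁻¹) * a⁻¹) * (a * u * a⁻¹ * u⁻¹) := by group
    rw [e, cmN h a ha _ (hcE b hb), mul_inv_cancel_right, cm_E h _ (hcE b hb) _ (hcE a ha)]
  have hA3 : ∀ a ∈ NH X W, (RHat.A3 h1 h2 h3 a) * u * (RHat.A3 h1 h2 h3 a)⁻¹ * u⁻¹ = RHat.A3 h1 h2 h3 (a * u * a⁻¹ * u⁻¹) := by
    intro a ha
    have m1 := hTN _ t1 a ha
    have m2 := hTN _ t2 a ha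
    have m3 := hTN _ t3 a ha
    unfold RHat.A3
    rw [hmul _ (mul_mem m1 m2) _ m3, hmul _ m1 _ m2, hc1 _ t1 a ha, hc1 _ t2 a ha, hc1 _ t3 a ha]
  have h5 : RHat.A3 h1 h2 h3 (RHat.A3 h1 h2 h3 (w * u * w⁻¹ * u⁻¹)) = 1 := by
    rw [← hA3 w hw, ← hA3 _ (A3_mem hTN t1 t2 t3 hw), hA]
    group
  obtain ⟨w0, hw0, w1, hw1, w2, hw2, e, k0, k1, k2⟩ := E_decomp h t1 t2 t3 (hcE w hw) h5
  have e1 : w1 = 1 := A3_inj h t1 t2 t3 hY1 w1 hw1 (A3_inj h t1 t2 t3 hY1 _ (A3_mem (h.TW 2 1) t1 t2 t3 hw1) k1)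
  have e2 : w2 = 1 := by
    rwa [A3_self h t1 t2 t3 w2 hw2, A3_self h t1 t2 t3 w2 hw2] at k2
  rw [e, e1, e2, mul_one, mul_one]
  exact hw0

/-- **The doubles of `X₂ / Z₂`.** -/
theorem exists_dbl [Finite G] (k : Kf X Y T) {x : G} (hx : x ∈ X 2) : ∃ u ∈ NH X W, x⁻¹ * (u⁻¹ * τ u) ∈ EK W ∧
    (∀ w ∈ W (-1), w * u * w⁻¹ * u⁻¹ ∈ W 0) ∧ ∀ w ∈ W (-2), w * u = u * w := by
  have hS := secN h
  obtain ⟨u, hu, hux, huf⟩ := exists_u h hx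
  have hR : RR X W T u := ⟨hu, huf⟩
  obtain ⟨a1, s1, a2, s2, a3, s3, km1, km2, kY1⟩ := k.fA
  have c1 : ∀ w ∈ W (-1), ∀ v, RR X W T v → w * v * w⁻¹ * v⁻¹ ∈ W 0 := fun w hw v hv =>
    comm_W0 h hv s1 s2 s3 kY1 (Wm1_le h hw) (A3_kill h s1 s2 s3 km1 w hw)
  have c2 : ∀ w ∈ W (-2), ∀ v, RR X W T v → w * v * w⁻¹ * v⁻¹ ∈ W 0 := fun w hw v hv =>
    comm_W0 h hv s1 s2 s3 kY1 (Wm2_le h hw) (A3_kill h s1 s2 s3 km2 w hw)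
  refine ⟨u, hu, hux, fun w hw => c1 w hw u hR, ?_⟩
  intro w hw
  obtain ⟨h1, t1, h2, t2, h3, t3, fX2, fY0⟩ := k.fB
  have hTN := T_N h (-2)
  have hTE := T_E h (-2)
  have c : ∀ g ∈ T (-2), g * w = w * g := fun g hg => h.TWc (-2) g hg w hw
  have i0 : W 0 ≤ EK W := le_sup_left.trans le_sup_left
  have hc1 : ∀ g ∈ T (-2), ∀ a, w * (g * a * g⁻¹) * w⁻¹ * (g * a * g⁻¹)⁻¹ = g * (w * a * w⁻¹ * a⁻¹) * g⁻¹ := by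
    intro g hg a
    have e : w * g = g * w := (c g hg).symm
    have e' : g⁻¹ * w⁻¹ = w⁻¹ * g⁻¹ := by rw [← mul_inv_rev, e, mul_inv_rev]
    calc w * (g * a * g⁻¹) * w⁻¹ * (g * a * g⁻¹)⁻¹ = (w * g) * a * (g⁻¹ * w⁻¹) * (g * a⁻¹ * g⁻¹) := by group
      _ = _ := by rw [e, e']; group
  have hmul : ∀ a, RR X W T a → ∀ b, RR X W T b → w * (a * b) * w⁻¹ * (a * b)⁻¹ =
      (w * a * w⁻¹ * a⁻¹) * (w * b * w⁻¹ * b⁻¹) := by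
    intro a ha b hb
    have e : w * (a * b) * w⁻¹ * (a * b)⁻¹ = (w * a * w⁻¹ * a⁻¹) * (a * (w * b * w⁻¹ * b⁻¹) * a⁻¹) := by group
    rw [e, cmN h a ha.mem _ (i0 (c2 w hw b hb)), mul_inv_cancel_right]
  have hA3 : ∀ a, RR X W T a → w * (RHat.A3 h1 h2 h3 a) * w⁻¹ * (RHat.A3 h1 h2 h3 a)⁻¹ =
      RHat.A3 h1 h2 h3 (w * a * w⁻¹ * a⁻¹) := by
    intro a ha
    have m1 := ha.conj h t1
    have m2 := ha.conj h t2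
    have m3 := ha.conj h t3
    unfold RHat.A3
    rw [hmul _ (m1.mul h m2) _ m3, hmul _ m1 _ m2, hc1 _ t1, hc1 _ t2, hc1 _ t3]
  -- `A3 (A3 u) ∈ E`
  have hxN : x ∈ NH X W := NK_le h (X2_le h hx)
  have A3E : ∀ e ∈ EK W, RHat.A3 h1 h2 h3 e ∈ EK W := fun e he => A3_mem hTE t1 t2 t3 he
  have A3xe : ∀ x ∈ X 2, ∀ e ∈ EK W, RHat.A3 h1 h2 h3 (x * e) ∈ EK W := by
    intro x hx e he
    have h5 := A3_mul_mod hS hTN t1 t2 t3 (NK_le h (X2_le h hx)) (hS.le he)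
    have h6 : RHat.A3 h1 h2 h3 x ∈ EK W := Subgroup.mem_sup_right (h.YW 2 (fX2 x hx))
    have e1 : RHat.A3 h1 h2 h3 (x * e) = (RHat.A3 h1 h2 h3 x * RHat.A3 h1 h2 h3 e) *
      ((RHat.A3 h1 h2 h3 x * RHat.A3 h1 h2 h3 e)⁻¹ * RHat.A3 h1 h2 h3 (x * e)) := by group
    rw [e1]
    exact mul_mem (mul_mem h6 (A3E e he)) h5
  have hfin : RHat.A3 h1 h2 h3 (RHat.A3 h1 h2 h3 u) ∈ EK W := by
    obtain ⟨e, he⟩ : ∃ e, e = x⁻¹ * (u⁻¹ * τ u) := ⟨_, rfl⟩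
    rw [← he] at hux
    have eτ : τ u = u * (x * e) := by rw [he]; group
    have h5 : (RHat.A3 h1 h2 h3 u)⁻¹ * τ (RHat.A3 h1 h2 h3 u) ∈ EK W := by
      rw [A3_map τ (h.tT _ _ t1) (h.tT _ _ t2) (h.tT _ _ t3), eτ]
      have h6 := A3_mul_mod hS hTN t1 t2 t3 hu (mul_mem hxN (hS.le hux))
      have e1 : (RHat.A3 h1 h2 h3 u)⁻¹ * RHat.A3 h1 h2 h3 (u * (x * e)) = RHat.A3 h1 h2 h3 (x * e) *
        ((RHat.A3 h1 h2 h3 u * RHat.A3 h1 h2 h3 (x * e))⁻¹ * RHat.A3 h1 h2 h3 (u * (x * e))) := by group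
      rw [e1]
      exact mul_mem (A3xe x hx e hux) h6
    obtain ⟨e', he', h6⟩ := (dbl_E h).exists_fix h.tt h5
    have hRA := hR.A3 h t1 t2 t3
    have hRc := hRA.mul h (RR.of_E h he')
    have hcK := fixN h _ (fun e he => cmN h _ hRc.mem e he) h6
    obtain ⟨x', hx', h7⟩ := kT2 h hcK hRc.fix
    obtain ⟨e'', hee⟩ : ∃ e'', e'' = x'⁻¹ * (RHat.A3 h1 h2 h3 u * e') := ⟨_, rfl⟩
    rw [← hee] at h7
    have e1 : RHat.A3 h1 h2 h3 u = x' * (e'' * e'⁻¹) := by rw [hee]; group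
    rw [e1]
    exact A3xe x' hx' _ (mul_mem h7 (inv_mem he'))
  have h5 : RHat.A3 h1 h2 h3 (RHat.A3 h1 h2 h3 (w * u * w⁻¹ * u⁻¹)) = 1 := by
    rw [← hA3 u hR, ← hA3 _ (hR.A3 h t1 t2 t3), cm_m2 h w hw _ hfin]
    group
  have hd := c2 w hw u hR
  have h6 := A3_inj h t1 t2 t3 fY0 _ hd (A3_inj h t1 t2 t3 fY0 _ (A3_mem (h.TW (-2) 0) t1 t2 t3 hd) h5)
  rw [mul_inv_eq_one, mul_inv_eq_iff_eq_mul] at h6
  exact h6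

end Cfsg.Agent.OddHalf.D7TwF4.Syl.RTwo
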